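import Mathlib

/-! The number of subgroups of prime power order is `1` modulo `p` (Wielandt's argument). -/

set_option autoImplicit false

namespace Cfsg.Agent.Lib.GS.SubgroupCount

open scoped Pointwise
open MulAction

variable {G : Type*} [Group G] [Finite G]

theorem smul_subgroup_eq {S : Finset G} {s : G} (hs : s ∈ S) [DecidableEq G] {H : Subgroup G}
    (hH : ∀ h ∈ H, h • S = S) (hcard : Nat.card H = S.card) (x : G) :
    x ∈ S ↔ x * s⁻¹ ∈ H := by
  classical
  have := Fintype.ofFinite G
  have hsub : (Finset.univ.filter fun y => y * s⁻¹ ∈ H) ⊆ S := by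
    intro y hy
    simp only [Finset.mem_filter, Finset.mem_univ, true_and] at hy
    rw [← hH _ hy]
    exact Finset.mem_smul_finset.2 ⟨s, hs, by simp⟩
  have hc : (Finset.univ.filter fun y => y * s⁻¹ ∈ H).card = Nat.card H := by
    rw [← Fintype.card_subtype, ← Nat.card_eq_fintype_card]
    exact Nat.card_congr ((Equiv.mulRight s⁻¹).subtypeEquiv fun y => Iff.rfl)
  rw [← Finset.eq_of_subset_of_card_le hsub (by rw [hc, hcard])]
  simp

/-- Wielandt: subsets of size `p ^ β` counted by left translation. -/
theorem choose_modEq (p β m : ℕ) [hp : Fact p.Prime] (hG : Nat.card G = p ^ β * m) :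
    Nat.choose (p ^ β * m) (p ^ β) ≡ m * Nat.card {H : Subgroup G // Nat.card H = p ^ β} [MOD p * m] := by
  classical
  have := Fintype.ofFinite G
  set X : Finset (Finset G) := (Finset.univ : Finset G).powersetCard (p ^ β) with hX
  have hXcard : X.card = Nat.choose (p ^ β * m) (p ^ β) := by
    rw [hX, Finset.card_powersetCard, Finset.card_univ, ← Nat.card_eq_fintype_card, hG]
  set good := X.filter fun S => Nat.card (stabilizer G S) = p ^ β with hgood
  have hpos : 0 < p ^ β := pow_pos hp.out.pos β
  -- the subsets with stabilizer of order `p ^ β` are right cosets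
  have hgoodcard : good.card = m * Nat.card {H : Subgroup G // Nat.card H = p ^ β} := by
    have e : (Σ S : good, (S : Finset G)) ≃ {H : Subgroup G // Nat.card H = p ^ β} × G :=
      { toFun := fun x => (⟨stabilizer G (x.1 : Finset G), (Finset.mem_filter.1 x.1.2).2⟩, x.2)
        invFun := fun y => ⟨⟨Finset.univ.filter fun x => x * y.2⁻¹ ∈ y.1.1, by
          have hc : (Finset.univ.filter fun x => x * y.2⁻¹ ∈ y.1.1).card = p ^ β := by
            rw [← Fintype.card_subtype, ← Nat.card_eq_fintype_card]
            exact (Nat.card_congr ((Equiv.mulRight y.2⁻¹).subtypeEquiv fun z => Iff.rfl)).trans y.1.2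
          refine Finset.mem_filter.2 ⟨Finset.mem_powersetCard.2 ⟨Finset.subset_univ _, hc⟩, ?_⟩
          have : stabilizer G (Finset.univ.filter fun x => x * y.2⁻¹ ∈ y.1.1) = y.1.1 := by
            ext g
            rw [mem_stabilizer_iff]
            constructor
            · intro h
              have hy : y.2 ∈ Finset.univ.filter fun x => x * y.2⁻¹ ∈ y.1.1 := by simp [one_mem]
              have := Finset.smul_mem_smul_finset (a := g) hy
              rw [h, Finset.mem_filter, smul_eq_mul, mul_inv_cancel_right] at this
              exact this.2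
            · intro hg
              ext x
              rw [Finset.mem_smul_finset]
              simp only [Finset.mem_filter, Finset.mem_univ, true_and, smul_eq_mul]
              constructor
              · rintro ⟨z, hz, rfl⟩
                rw [mul_assoc]; exact mul_mem hg hz
              · intro hx
                exact ⟨g⁻¹ * x, by rw [mul_assoc]; exact mul_mem (inv_mem hg) hx, by simp⟩
          rw [this]; exact y.1.2⟩, ⟨y.2, by simp [one_mem]⟩⟩
        left_inv := fun x => by
          obtain ⟨⟨S, hS⟩, s, hs⟩ := x
          have hS2 := Finset.mem_filter.1 hS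
          have hcard := (Finset.mem_powersetCard.1 hS2.1).2
          refine Sigma.subtype_ext (Subtype.ext ?_) rfl
          ext y
          simp only [Finset.mem_filter, Finset.mem_univ, true_and]
          exact (smul_subgroup_eq hs (fun h hh => hh) (hS2.2.trans hcard.symm) y).symm
        right_inv := fun y => by
          obtain ⟨⟨H, hH⟩, g⟩ := y
          refine Prod.ext (Subtype.ext ?_) rfl
          ext x
          rw [mem_stabilizer_iff]
          constructor
          · intro h
            have hy : g ∈ Finset.univ.filter fun z => z * g⁻¹ ∈ H := by simp [one_mem]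
            have := Finset.smul_mem_smul_finset (a := x) hy
            rw [h, Finset.mem_filter, smul_eq_mul, mul_inv_cancel_right] at this
            exact this.2
          · intro hg
            ext z
            rw [Finset.mem_smul_finset]
            simp only [Finset.mem_filter, Finset.mem_univ, true_and, smul_eq_mul]
            constructor
            · rintro ⟨w, hw, rfl⟩
              rw [mul_assoc]; exact mul_mem hg hw
            · intro hx
              exact ⟨x⁻¹ * z, by rw [mul_assoc]; exact mul_mem (inv_mem hg) hx, by simp⟩ }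
    have h1 := Nat.card_congr e
    rw [Nat.card_sigma, Nat.card_prod, hG] at h1
    have h2 : ∀ S : good, Nat.card ((S : Finset G) : Type _) = p ^ β := fun S => by
      rw [Nat.card_eq_fintype_card, Fintype.card_coe]
      exact (Finset.mem_powersetCard.1 (Finset.mem_filter.1 S.2).1).2
    simp only [h2, Finset.sum_const, Finset.card_univ, Fintype.card_coe, smul_eq_mul] at h1
    exact Nat.eq_of_mul_eq_mul_right hpos (h1.trans (by ring))
  rw [← hXcard, ← hgoodcard, ← Finset.card_filter_add_card_filter_not (s := X)
    (fun S => Nat.card (stabilizer G S) = p ^ β), ← hgood]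
  refine Nat.ModEq.symm (((Nat.modEq_iff_dvd' (Nat.le_add_right _ _)).2 ?_))
  rw [Nat.add_sub_cancel_left, Finset.card_eq_sum_card_fiberwise
    (f := fun S : Finset G => (Quotient.mk (orbitRel G (Finset G)) S)) (t := Finset.univ)
    (fun x _ => Finset.mem_univ _)]
  refine Finset.dvd_sum fun c _ => ?_
  rcases Finset.eq_empty_or_nonempty ((X.filter fun S => ¬ Nat.card (stabilizer G S) = p ^ β).filter
    fun S => Quotient.mk (orbitRel G (Finset G)) S = c) with h0 | ⟨S, hS⟩
  · rw [h0]; simp
  simp only [Finset.mem_filter] at hS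
  obtain ⟨⟨hSX, hSs⟩, rfl⟩ := hS
  have hSc : S.card = p ^ β := (Finset.mem_powersetCard.1 hSX).2
  have hfib : ((X.filter fun T => ¬ Nat.card (stabilizer G T) = p ^ β).filter
      fun T => Quotient.mk (orbitRel G (Finset G)) T = Quotient.mk (orbitRel G (Finset G)) S) =
      (orbit G S).toFinset := by
    ext T
    simp only [Finset.mem_filter, Set.mem_toFinset, Quotient.eq]
    refine ⟨fun h => h.2, fun h => ⟨⟨?_, ?_⟩, h⟩⟩
    · obtain ⟨g, rfl⟩ := h
      exact Finset.mem_powersetCard.2 ⟨Finset.subset_univ _, by rw [Finset.card_smul_finset, hSc]⟩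
    · obtain ⟨g, rfl⟩ := h
      rwa [stabilizer_smul_eq_stabilizer_map_conj, Subgroup.card_map_of_injective (MulAut.conj g).injective]
  rw [hfib, ← Set.ncard_eq_toFinset_card', ← Nat.card_coe_set_eq,
    Nat.card_congr (orbitEquivQuotientStabilizer G S), ← Subgroup.index_eq_card]
  -- the order of the stabilizer divides `p ^ β`
  have hdvd : Nat.card (stabilizer G S) ∣ p ^ β := by
    rw [← hSc]
    have hinv : ∀ s ∈ S, ∀ h ∈ stabilizer G S, h * s ∈ S := fun s hs h hh => by
      have := Finset.smul_mem_smul_finset (a := h) hs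
      rwa [mem_stabilizer_iff.1 hh] at this
    letI : MulAction (stabilizer G S) S :=
      { smul := fun h s => ⟨(h : G) * s, hinv _ s.2 _ h.2⟩
        one_smul := fun s => Subtype.ext (one_mul _)
        mul_smul := fun a b s => Subtype.ext (mul_assoc _ _ _) }
    have hfree : ∀ s : S, stabilizer (stabilizer G S) s = ⊥ := fun s => by
      rw [eq_bot_iff]
      intro h hh
      exact Subgroup.mem_bot.2 (Subtype.ext (mul_right_cancel (b := (s : G))
        ((congrArg Subtype.val (mem_stabilizer_iff.1 hh)).trans (one_mul (s : G)).symm)))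
    refine ⟨Nat.card (Quotient (orbitRel (stabilizer G S) S)), ?_⟩
    rw [← Fintype.card_coe, ← Nat.card_eq_fintype_card,
      Nat.card_congr (selfEquivSigmaOrbits (stabilizer G S) S), Nat.card_sigma,
      Finset.sum_const_nat (m := Nat.card (stabilizer G S)), Finset.card_univ, ← Nat.card_eq_fintype_card, mul_comm]
    intro q _
    rw [Nat.card_congr (orbitEquivQuotientStabilizer _ _), ← Subgroup.index_eq_card, hfree, Subgroup.index_bot]
  obtain ⟨i, hi, hstab⟩ := (Nat.dvd_prime_pow hp.out).1 hdvd
  have hlt : i < β := lt_of_le_of_ne hi fun h => hSs (h ▸ hstab)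
  have hidx := (stabilizer G S).card_mul_index
  rw [hstab, hG] at hidx
  refine ⟨p ^ (β - i - 1), Nat.eq_of_mul_eq_mul_left (pow_pos hp.out.pos i) (hidx.trans ?_)⟩
  have : p ^ β = p ^ i * (p * p ^ (β - i - 1)) := by
    rw [← pow_succ', ← pow_add]; congr 1; omega
  rw [this]; ring

/-- The number of subgroups of order `p ^ β` is `1` modulo `p`. -/
theorem card_subgroups_modEq_one (p β : ℕ) [hp : Fact p.Prime] (hdiv : p ^ β ∣ Nat.card G) :
    Nat.card {H : Subgroup G // Nat.card H = p ^ β} ≡ 1 [MOD p] := by
  classical
  obtain ⟨m, hm⟩ := hdiv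
  have hm0 : m ≠ 0 := fun h => (Nat.card_pos (α := G)).ne' (by rw [hm, h, mul_zero])
  haveI : NeZero (p ^ β * m) := ⟨Nat.mul_ne_zero (pow_pos hp.out.pos β).ne' hm0⟩
  have hC : Nat.card (Multiplicative (ZMod (p ^ β * m))) = p ^ β * m := by
    rw [Nat.card_congr Multiplicative.toAdd, Nat.card_zmod]
  have h1 := choose_modEq p β m hm
  have h2 := choose_modEq (G := Multiplicative (ZMod (p ^ β * m))) p β m hC
  have h3 : Nat.card {H : Subgroup (Multiplicative (ZMod (p ^ β * m))) // Nat.card H = p ^ β} = 1 := by
    rw [Nat.card_eq_one_iff_unique]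
    have := Fintype.ofFinite (Multiplicative (ZMod (p ^ β * m)))
    have hset : ∀ H : Subgroup (Multiplicative (ZMod (p ^ β * m))), Nat.card H = p ^ β →
        (Finset.univ.filter fun x => x ∈ H) = Finset.univ.filter fun x : Multiplicative (ZMod (p ^ β * m)) => x ^ (p ^ β) = 1 := by
      intro H hH
      refine Finset.eq_of_subset_of_card_le (fun x hx => ?_) ?_
      · simp only [Finset.mem_filter, Finset.mem_univ, true_and] at hx ⊢
        have := pow_card_eq_one' (x := (⟨x, hx⟩ : H))
        rw [hH] at this
        exact congrArg Subtype.val this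
      · refine (IsCyclic.card_pow_eq_one_le (pow_pos hp.out.pos β)).trans (le_of_eq ?_)
        rw [← Fintype.card_subtype, ← Nat.card_eq_fintype_card]
        exact hH.symm
    refine ⟨⟨fun a b => Subtype.ext (SetLike.ext fun x => ?_)⟩, ?_⟩
    · simpa using Finset.ext_iff.1 ((hset a.1 a.2).trans (hset b.1 b.2).symm) x
    · obtain ⟨H, hH⟩ := Sylow.exists_subgroup_card_pow_prime p (n := β)
        (G := Multiplicative (ZMod (p ^ β * m))) ((dvd_mul_right _ _).trans (dvd_of_eq hC.symm))
      exact ⟨⟨H, hH⟩⟩
  rw [h3] at h2
  have h4 := h1.symm.trans h2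
  rw [mul_comm p m] at h4
  exact Nat.ModEq.mul_left_cancel' hm0 h4

end Cfsg.Agent.Lib.GS.SubgroupCount
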