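import Mathlib
import Cfsg.Agent.Lib.UniqueInvolution

/-!
Finite `p`-groups in which subgroups of equal order are isomorphic.
-/

set_option autoImplicit false

namespace Cfsg.Agent.Lib.GS.ConjPSub

open Subgroup
open scoped commutatorElement

variable {P : Type*} [Group P] [Finite P] {p : ℕ} [hp : Fact p.Prime]

omit hp in
/-- Adjoining to a commutative subgroup a commuting element of prime order outside it. -/
theorem sup_zpowers_commutative {A : Subgroup P} (hA : IsMulCommutative A) {w : P}
    (hw : orderOf w = p) [Fact p.Prime] (hwA : w ∉ A) (hcomm : ∀ a ∈ A, Commute a w) :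
    IsMulCommutative (A ⊔ zpowers w : Subgroup P) ∧
      Nat.card (A ⊔ zpowers w : Subgroup P) = Nat.card A * p := by
  have hc : ∀ (m : A) (n : zpowers w), Commute (A.subtype m) ((zpowers w).subtype n) := by
    intro m n
    obtain ⟨k, hk⟩ := mem_zpowers_iff.1 n.2
    simpa [← hk] using (hcomm m m.2).zpow_right k
  set f := MonoidHom.noncommCoprod A.subtype (zpowers w).subtype hc with hf
  have hrange : f.range = A ⊔ zpowers w := by
    rw [hf, MonoidHom.noncommCoprod_range, range_subtype, range_subtype]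
  have hinj : Function.Injective f := by
    rw [hf, MonoidHom.noncommCoprod_injective, range_subtype, range_subtype]
    refine ⟨subtype_injective _, subtype_injective _, ?_⟩
    rw [disjoint_iff, eq_bot_iff]
    intro x hx
    rw [mem_bot]
    by_contra hx1
    have hxw : x ∈ zpowers w := hx.2
    have : zpowers x = zpowers w := by
      refine eq_of_le_of_card_ge (zpowers_le.2 hxw) ?_
      rw [Nat.card_zpowers, Nat.card_zpowers, hw]
      have h1 := orderOf_dvd_of_mem_zpowers hxw
      rw [hw] at h1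
      rcases (Nat.dvd_prime (Fact.out : p.Prime)).1 h1 with h | h
      · exact absurd (orderOf_eq_one_iff.1 h) hx1
      · rw [h]
    exact hwA (zpowers_le.1 (this.symm.le.trans (zpowers_le.2 hx.1)))
  constructor
  · refine ⟨⟨fun a b => ?_⟩⟩
    obtain ⟨a', ha⟩ := (hrange.symm ▸ a.2 : (a : P) ∈ f.range)
    obtain ⟨b', hb⟩ := (hrange.symm ▸ b.2 : (b : P) ∈ f.range)
    apply Subtype.ext
    push_cast
    rw [← ha, ← hb, ← map_mul, ← map_mul]
    refine congrArg f (Prod.ext ?_ ?_)
    · exact hA.1.1 _ _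
    · exact mul_comm' _ _
  · rw [← hrange, ← Nat.card_congr (MonoidHom.ofInjective hinj).toEquiv, Nat.card_prod,
      Nat.card_zpowers, hw]

omit [Finite P] hp in
theorem card_sup_le_mul {A B : Subgroup P} (hB : B ≤ normalizer (A : Set P)) [Finite P] :
    Nat.card (A ⊔ B : Subgroup P) ≤ Nat.card A * Nat.card B := by
  rw [← Nat.card_prod]
  refine Nat.card_le_card_of_surjective
    (fun x : A × B => (⟨(x.1 : P) * x.2, mul_mem (mem_sup_left x.1.2) (mem_sup_right x.2.2)⟩ :
      (A ⊔ B : Subgroup P))) ?_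
  intro z
  have hz : (z : P) ∈ ((A ⊔ B : Subgroup P) : Set P) := z.2
  rw [Subgroup.coe_mul_of_right_le_normalizer_left A B hB] at hz
  obtain ⟨a, ha, b, hb, hab⟩ := Set.mem_mul.1 hz
  exact ⟨(⟨a, ha⟩, ⟨b, hb⟩), Subtype.ext hab⟩

/-- An element of the second centre outside the centre. -/
theorem exists_second_center (hP : IsPGroup p P) (hnc : ¬ IsMulCommutative P) :
    ∃ x : P, x ∉ center P ∧ ∀ g : P, ⁅g, x⁆ ∈ center P := by
  have hne : center P ≠ ⊤ := by
    intro h
    exact hnc ⟨⟨fun a b => (mem_center_iff.1 (h ▸ mem_top b : b ∈ center P) a)⟩⟩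
  haveI : Nontrivial (P ⧸ center P) := QuotientGroup.nontrivial_iff.mpr hne
  haveI := (hP.to_quotient (center P)).center_nontrivial
  obtain ⟨⟨z, hz⟩, hz1⟩ := exists_ne (1 : center (P ⧸ center P))
  obtain ⟨x, rfl⟩ := QuotientGroup.mk_surjective z
  refine ⟨x, fun hx => hz1 (Subtype.ext ((QuotientGroup.eq_one_iff x).2 hx)), fun g => ?_⟩
  rw [← QuotientGroup.eq_one_iff]
  change (QuotientGroup.mk' (center P)) ⁅g, x⁆ = 1
  rw [map_commutatorElement, commutatorElement_eq_one_iff_commute]
  exact mem_center_iff.1 hz _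

theorem orderOf_eq_p (hexp : ∀ x : P, x ^ p = 1) {x : P} (hx : x ≠ 1) : orderOf x = p :=
  orderOf_eq_prime (hexp x) hx

/-- A noncommutative `p`-group of exponent `p` has a noncommutative subgroup of order `p³`. -/
theorem exists_noncomm_cube (hP : IsPGroup p P) (hexp : ∀ x : P, x ^ p = 1)
    (hnc : ¬ IsMulCommutative P) :
    ∃ H : Subgroup P, ¬ IsMulCommutative H ∧ Nat.card H = p ^ 3 := by
  obtain ⟨x, hx, hx2⟩ := exists_second_center hP hnc
  obtain ⟨y, hy⟩ : ∃ y : P, ⁅y, x⁆ ≠ 1 := by
    by_contra! h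
    exact hx (mem_center_iff.2 fun g => commutatorElement_eq_one_iff_commute.1 (h g))
  set c := ⁅y, x⁆ with hc
  have hcz : c ∈ center P := hx2 y
  have hco : orderOf c = p := orderOf_eq_p hexp hy
  have hxo : orderOf x = p := orderOf_eq_p hexp fun h => hx (h ▸ one_mem _)
  have hxc : x ∉ zpowers c := fun h => hx (zpowers_le.2 hcz h)
  obtain ⟨hAc, hAcard⟩ := sup_zpowers_commutative (A := zpowers c) inferInstance hxo hxc (by
    intro a ha
    exact (mem_center_iff.1 (zpowers_le.2 hcz ha) x).symm)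
  set A := zpowers c ⊔ zpowers x
  have hyN : zpowers y ≤ normalizer (A : Set P) := by
    rw [zpowers_le]
    refine Subgroup.mem_normalizer_fintype fun a ha => ?_
    have hle : A ≤ A.comap (MulAut.conj y).toMonoidHom := by
      refine sup_le (zpowers_le.2 ?_) (zpowers_le.2 ?_)
      · simp only [mem_comap, MulEquiv.coe_toMonoidHom, MulAut.conj_apply]
        rw [mem_center_iff.1 hcz y, mul_inv_cancel_right]
        exact mem_sup_left (mem_zpowers c)
      · simp only [mem_comap, MulEquiv.coe_toMonoidHom, MulAut.conj_apply]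
        rw [show y * x * y⁻¹ = c * x by rw [hc, commutatorElement_def]; group]
        exact mul_mem (mem_sup_left (mem_zpowers c)) (mem_sup_right (mem_zpowers x))
    simpa using hle ha
  refine ⟨A ⊔ zpowers y, ?_, ?_⟩
  · intro h
    refine hy (commutatorElement_eq_one_iff_commute.2 ?_)
    exact congrArg Subtype.val (h.1.1 (⟨y, mem_sup_right (mem_zpowers y)⟩ : (A ⊔ zpowers y : Subgroup P))
      ⟨x, mem_sup_left (mem_sup_right (mem_zpowers x))⟩)
  · have hle : Nat.card (A ⊔ zpowers y : Subgroup P) ≤ p ^ 3 := by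
      refine (card_sup_le_mul hyN).trans (le_of_eq ?_)
      rw [hAcard, Nat.card_zpowers, Nat.card_zpowers, hco,
        orderOf_eq_p hexp (fun h => hy (by simp [hc, h]))]
      ring
    obtain ⟨k, hk⟩ := IsPGroup.iff_card.1 (hP.to_subgroup (A ⊔ zpowers y))
    rw [hk] at hle ⊢
    have hk3 : k ≤ 3 := (Nat.pow_le_pow_iff_right hp.out.one_lt).1 hle
    have hxy : ¬ IsMulCommutative (A ⊔ zpowers y : Subgroup P) := by
      intro h
      refine hy (commutatorElement_eq_one_iff_commute.2 ?_)
      exact congrArg Subtype.val (h.1.1 (⟨y, mem_sup_right (mem_zpowers y)⟩ : (A ⊔ zpowers y : Subgroup P))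
        ⟨x, mem_sup_left (mem_sup_right (mem_zpowers x))⟩)
    have h2 : 2 < k := by
      by_contra hk2
      apply hxy
      have hlt : A < A ⊔ zpowers y := by
        refine lt_of_le_of_ne le_sup_left fun he => hxy (he ▸ hAc)
      have : Nat.card A < Nat.card (A ⊔ zpowers y : Subgroup P) :=
        lt_of_le_of_ne (card_le_of_le hlt.le) fun e => hlt.ne (eq_of_le_of_card_ge hlt.le e.ge)
      rw [hAcard, Nat.card_zpowers, hco, hk] at this
      have hle' : p ^ k ≤ p ^ 2 := Nat.pow_le_pow_right hp.out.pos (by omega)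
      rw [sq] at hle'
      omega
    rw [show k = 3 by omega]

omit hp in
theorem card_center_exists {A : Subgroup P} {n : ℕ} [Fact p.Prime] (h : p ^ n ∣ Nat.card A) :
    ∃ B : Subgroup P, B ≤ A ∧ Nat.card B = p ^ n := by
  obtain ⟨B, hB⟩ := Sylow.exists_subgroup_card_pow_prime p h
  exact ⟨B.map A.subtype, map_subtype_le B, by
    rw [card_map_of_injective (subtype_injective A), hB]⟩

/-- A `p`-group of exponent `p` and order at least `p⁴` has a commutative subgroup of order `p³`. -/
theorem exists_comm_cube (hP : IsPGroup p P) (hexp : ∀ x : P, x ^ p = 1)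
    (h4 : p ^ 4 ≤ Nat.card P) : ∃ H : Subgroup P, IsMulCommutative H ∧ Nat.card H = p ^ 3 := by
  obtain ⟨n, hn⟩ := IsPGroup.iff_card.1 hP
  have hn4 : 4 ≤ n := (Nat.pow_le_pow_iff_right hp.out.one_lt).1 (hn ▸ h4)
  have hgrow : ∀ A : Subgroup P, IsMulCommutative A → Nat.card A = p ^ 2 →
      (∃ w, w ∉ A ∧ ∀ a ∈ A, Commute a w) → ∃ H : Subgroup P, IsMulCommutative H ∧ Nat.card H = p ^ 3 := by
    rintro A hAc hA ⟨w, hw, hcw⟩
    obtain ⟨h1, h2⟩ := sup_zpowers_commutative hAc
      (orderOf_eq_p hexp fun h : w = 1 => hw (h ▸ one_mem _)) hw hcw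
    exact ⟨_, h1, by rw [h2, hA]; ring⟩
  haveI : Nontrivial P := by
    rw [← Finite.one_lt_card_iff_nontrivial, hn]
    exact Nat.one_lt_pow (by omega) hp.out.one_lt
  haveI := hP.center_nontrivial
  obtain ⟨m, hm⟩ := IsPGroup.iff_card.1 (hP.to_subgroup (center P))
  by_cases hm2 : 2 ≤ m
  · obtain ⟨A, hA, hAcard⟩ := card_center_exists (A := center P) (n := 2)
      (hm ▸ pow_dvd_pow p hm2)
    have hAc : IsMulCommutative A :=
      ⟨⟨fun a b => Subtype.ext (mem_center_iff.1 (hA b.2) a)⟩⟩
    refine hgrow A hAc hAcard ?_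
    obtain ⟨w, hw⟩ : ∃ w, w ∉ A := by
      by_contra! h
      have : A = ⊤ := eq_top_iff.2 fun x _ => h x
      rw [this, card_top, hn] at hAcard
      have := Nat.pow_right_injective hp.out.two_le hAcard
      omega
    exact ⟨w, hw, fun a ha => (mem_center_iff.1 (hA ha) w).symm⟩
  · have hm1 : m = 1 := by
      have : 1 < p ^ m := hm ▸ Finite.one_lt_card_iff_nontrivial.2 inferInstance
      rcases m with _ | _ | m
      · simp at this
      · rfl
      · omega
    subst hm1
    have hnc : ¬ IsMulCommutative P := by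
      intro h
      have : center P = ⊤ := eq_top_iff.2 fun x _ => mem_center_iff.2 fun g => h.1.1 g x
      rw [this, card_top, hn] at hm
      have := Nat.pow_right_injective hp.out.two_le hm
      omega
    obtain ⟨x, hx, hx2⟩ := exists_second_center hP hnc
    obtain ⟨hAc, hA⟩ := sup_zpowers_commutative (A := center P) inferInstance
      (orderOf_eq_p hexp fun h : x = 1 => hx (h ▸ one_mem _)) hx
      (fun a ha => (mem_center_iff.1 ha x).symm)
    rw [hm] at hA
    refine hgrow _ hAc (by rw [hA]; ring) ?_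
    -- the centraliser of `x` has index at most `p`
    let φ : P →* center P := MonoidHom.mk' (fun g => ⟨⁅g, x⁆, hx2 g⟩) fun g h => Subtype.ext (by
      have := mem_center_iff.1 (hx2 h)
      show ⁅g * h, x⁆ = ⁅g, x⁆ * ⁅h, x⁆
      rw [show ⁅g * h, x⁆ = g * ⁅h, x⁆ * g⁻¹ * ⁅g, x⁆ by
        simp only [commutatorElement_def]; group, this g, mul_inv_cancel_right]
      exact (this _).symm)
    by_contra! h
    have hker : φ.ker ≤ center P ⊔ zpowers x := by
      intro w hw
      by_contra hwA
      obtain ⟨a, ha, hna⟩ := h w hwA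
      refine hna ?_
      have hwx : Commute w x := commutatorElement_eq_one_iff_commute.1 (congrArg Subtype.val hw)
      have hle : center P ⊔ zpowers x ≤ centralizer {w} := by
        refine sup_le (center_le_centralizer _) (zpowers_le.2 ?_)
        rw [mem_centralizer_singleton_iff]
        exact hwx.symm.eq
      exact mem_centralizer_singleton_iff.1 (hle ha)
    have h1 := Subgroup.card_le_of_le hker
    have h2 : φ.ker.index ≤ p ^ 1 := by
      rw [index_ker, ← hm]
      exact card_le_card_group _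
    have h3 := φ.ker.card_mul_index
    rw [hn] at h3
    have : p ^ n ≤ p ^ 1 * p * p ^ 1 := by
      rw [← h3]
      exact Nat.mul_le_mul (h1.trans hA.le) h2
    have h5 : p ^ 4 ≤ p ^ n := Nat.pow_le_pow_right hp.out.pos hn4
    have h6 : p ^ 1 * p * p ^ 1 < p ^ 4 := by
      rw [show p ^ 1 * p * p ^ 1 = p ^ 3 by ring]
      exact Nat.pow_lt_pow_right hp.out.one_lt (by norm_num)
    omega

open QuaternionGroup in
/-- A generalized quaternion group of order at least `16` has noncommutative and cyclic subgroups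
of order `8`. -/
theorem quaternion_not_iso {n : ℕ} (hn : 2 ≤ n) :
    ∃ H K : Subgroup (QuaternionGroup (2 ^ n)), Nat.card H = Nat.card K ∧
      IsMulCommutative K ∧ ¬ IsMulCommutative H := by
  obtain ⟨l, rfl⟩ := Nat.exists_eq_add_of_le hn
  haveI : NeZero (2 ^ (2 + l)) := ⟨by positivity⟩
  set m := 2 ^ (2 + l) with hm
  set k := 2 ^ (1 + l) with hk
  have hmk : m = 2 * k := by rw [hm, hk, ← pow_succ']; ring_nf
  have h0 : ((2 * 2 : ℕ) : ℤ) • (k : ZMod (2 * m)) = 0 := by
    rw [zsmul_eq_mul, Int.cast_natCast, ← Nat.cast_mul, show 2 * 2 * k = 2 * m by rw [hmk]; ring,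
      ZMod.natCast_self]
  let ψ : ZMod (2 * 2) →+ ZMod (2 * m) :=
    ZMod.lift (2 * 2) ⟨zmultiplesHom _ (k : ZMod (2 * m)), by simpa using h0⟩
  have hψ2 : ψ ((2 : ℕ) : ZMod (2 * 2)) = (m : ZMod (2 * m)) := by
    have := ZMod.lift_coe (2 * 2) ⟨zmultiplesHom _ (k : ZMod (2 * m)), by simpa using h0⟩ (2 : ℤ)
    simp only [zmultiplesHom_apply] at this
    have e : ((2 : ℕ) : ZMod (2 * 2)) = ((2 : ℤ) : ZMod (2 * 2)) := by norm_cast
    rw [e]
    refine this.trans ?_
    rw [hmk]
    push_cast
    simp [two_mul, two_zsmul]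
  have hψ : Function.Injective ψ := by
    refine (ZMod.lift_injective _).2 fun t ht => ?_
    simp only [zmultiplesHom_apply, zsmul_eq_mul] at ht
    rw [← Int.cast_natCast (R := ZMod (2 * m)) k, ← Int.cast_mul,
      ZMod.intCast_zmod_eq_zero_iff_dvd] at ht
    rw [ZMod.intCast_zmod_eq_zero_iff_dvd]
    rw [hmk] at ht
    push_cast at ht ⊢
    refine Int.dvd_of_mul_dvd_mul_right (a := (k : ℤ)) (by positivity) ?_
    convert ht using 1
    ring
  let f : QuaternionGroup 2 →* QuaternionGroup m := MonoidHom.mk'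
    (fun q => match q with
      | .a i => .a (ψ i)
      | .xa i => .xa (ψ i))
    (by rintro (i | i) (j | j) <;>
      simp only [a_mul_a, a_mul_xa, xa_mul_a, xa_mul_xa, map_add, map_sub, hψ2])
  have hf : Function.Injective f := by
    rintro (i | i) (j | j) h <;>
      simp only [f, MonoidHom.mk'_apply, QuaternionGroup.a.injEq, QuaternionGroup.xa.injEq,
        reduceCtorEq] at h
    · exact congrArg _ (hψ h)
    · exact congrArg _ (hψ h)
  refine ⟨f.range, zpowers ((a 1) ^ (2 ^ l) : QuaternionGroup m), ?_, inferInstance, ?_⟩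
  · rw [← Nat.card_congr (MonoidHom.ofInjective hf).toEquiv, Nat.card_zpowers, orderOf_pow,
      orderOf_a_one, Nat.card_eq_fintype_card, QuaternionGroup.card]
    rw [show 2 * m = 2 ^ l * 8 by rw [hm, pow_add]; ring, Nat.gcd_mul_right_left,
      Nat.mul_div_cancel_left _ (by positivity)]
  · intro h
    have := congrArg Subtype.val (h.1.1 (⟨f (a 1), _, rfl⟩ : f.range) ⟨f (xa 0), _, rfl⟩)
    simp only [coe_mul] at this
    rw [← map_mul, ← map_mul] at this
    exact absurd (hf this) (by decide)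

/-- `p`-groups in which any two subgroups of the same order are isomorphic. -/
theorem classify (hP : IsPGroup p P)
    (h : ∀ H K : Subgroup P, Nat.card H = Nat.card K → Nonempty (H ≃* K)) :
    IsCyclic P ∨ (IsMulCommutative P ∧ ∀ x : P, x ^ p = 1) ∨
      (p = 2 ∧ Nonempty (P ≃* QuaternionGroup 2)) ∨
      (p ≠ 2 ∧ ¬ IsMulCommutative P ∧ Nat.card P = p ^ 3 ∧ ∀ x : P, x ^ p = 1) := by
  have hcomm : ∀ H K : Subgroup P, Nat.card H = Nat.card K → IsMulCommutative K → IsMulCommutative H := by
    intro H K hHK hK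
    obtain ⟨e⟩ := h H K hHK
    exact ⟨⟨fun a b => e.injective (by rw [map_mul, map_mul]; exact hK.1.1 _ _)⟩⟩
  by_cases huniq : ∀ H K : Subgroup P, Nat.card H = p → Nat.card K = p → H = K
  · rcases Cfsg.Agent.Lib.UniqueInvolution.isCyclic_or_quaternion hP huniq with hc | ⟨h2, n, hn, ⟨e⟩⟩
    · exact Or.inl hc
    · rcases hn.eq_or_lt with rfl | hn2
      · exact Or.inr (Or.inr (Or.inl ⟨h2, ⟨e⟩⟩))
      · exfalso
        obtain ⟨H, K, hHK, hK, hH⟩ := quaternion_not_iso (n := n) hn2
        have := hcomm (H.map e.symm.toMonoidHom) (K.map e.symm.toMonoidHom)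
          (by rw [card_map_of_injective e.symm.injective, card_map_of_injective e.symm.injective, hHK])
          (by
            refine ⟨⟨fun a b => ?_⟩⟩
            obtain ⟨a', ha', hae⟩ := a.2
            obtain ⟨b', hb', hbe⟩ := b.2
            apply Subtype.ext
            push_cast
            rw [← hae, ← hbe, ← map_mul, ← map_mul]
            exact congrArg _ (congrArg Subtype.val (hK.1.1 ⟨a', ha'⟩ ⟨b', hb'⟩)))
        refine hH ⟨⟨fun a b => Subtype.ext (e.symm.injective ?_)⟩⟩
        have h2 : e.symm.toMonoidHom a * e.symm.toMonoidHom b =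
            e.symm.toMonoidHom b * e.symm.toMonoidHom a :=
          congrArg Subtype.val (this.1.1 (⟨_, mem_map_of_mem _ a.2⟩ : H.map e.symm.toMonoidHom)
            ⟨_, mem_map_of_mem _ b.2⟩)
        rw [← map_mul, ← map_mul] at h2
        exact h2
  · push Not at huniq
    obtain ⟨H₀, K₀, hH₀, hK₀, hne⟩ := huniq
    haveI : Nontrivial P := by
      obtain ⟨x, y, hxy⟩ := (Finite.one_lt_card_iff_nontrivial.1
        (hH₀ ▸ hp.out.one_lt : 1 < Nat.card H₀)).exists_pair_ne
      exact ⟨x, y, fun he => hxy (Subtype.ext he)⟩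
    -- an elementary abelian subgroup of order `p²`
    haveI := hP.center_nontrivial
    obtain ⟨Z, hZ, hZp⟩ := card_center_exists (A := center P) (n := 1) (p := p) (by
      obtain ⟨m, hm⟩ := IsPGroup.iff_card.1 (hP.to_subgroup (center P))
      rw [hm]
      refine pow_dvd_pow p ?_
      by_contra! hm0
      have : 1 < Nat.card (center P) := Finite.one_lt_card_iff_nontrivial.2 inferInstance
      rw [hm, show m = 0 by omega, pow_zero] at this
      omega)
    rw [pow_one] at hZp
    have hex : ∃ H : Subgroup P, Nat.card H = p ∧ H ≠ Z := by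
      by_cases he : H₀ = Z
      · exact ⟨K₀, hK₀, fun hk => hne (he.trans hk.symm)⟩
      · exact ⟨H₀, hH₀, he⟩
    obtain ⟨H₁, hH₁, hH₁Z⟩ := hex
    obtain ⟨w, hwH, hwZ⟩ : ∃ w ∈ H₁, w ∉ Z := by
      by_contra! hh
      exact hH₁Z (eq_of_le_of_card_ge hh (by rw [hH₁, hZp]))
    have hwo : orderOf w = p := by
      have h1 : orderOf w ∣ p := hH₁ ▸ Subgroup.orderOf_dvd_natCard H₁ hwH
      rcases (Nat.dvd_prime hp.out).1 h1 with h1 | h1
      · exact absurd ((orderOf_eq_one_iff.1 h1) ▸ one_mem Z) hwZ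
      · exact h1
    obtain ⟨hEc, hEcard⟩ := sup_zpowers_commutative (A := Z)
      ⟨⟨fun a b => Subtype.ext (mem_center_iff.1 (hZ b.2) a)⟩⟩ hwo hwZ
      (fun a ha => (mem_center_iff.1 (hZ ha) w).symm)
    rw [hZp] at hEcard
    set E := Z ⊔ zpowers w
    have hEp : ∀ a : E, a ^ p = 1 := by
      intro a
      let cg : CommGroup E := { (inferInstance : Group E) with mul_comm := hEc.1.1 }
      have hle : E ≤ ((powMonoidHom p : E →* E).ker).map E.subtype := by
        refine sup_le (fun z hz => ?_) (zpowers_le.2 ?_)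
        · refine ⟨⟨z, mem_sup_left hz⟩, ?_, rfl⟩
          refine Subtype.ext ?_
          have : orderOf z ∣ p := hZp ▸ Subgroup.orderOf_dvd_natCard Z hz
          simpa using orderOf_dvd_iff_pow_eq_one.1 this
        · refine ⟨⟨w, mem_sup_right (mem_zpowers w)⟩, ?_, rfl⟩
          refine Subtype.ext ?_
          simpa using hwo ▸ pow_orderOf_eq_one w
      obtain ⟨b, hb, hba⟩ := hle a.2
      rw [← Subtype.ext hba]
      exact hb
    have hexp : ∀ x : P, x ^ p = 1 := by
      intro x
      by_contra hx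
      obtain ⟨k, hk⟩ := IsPGroup.iff_orderOf.1 hP x
      have hk2 : 2 ≤ k := by
        by_contra! hk1
        refine hx (orderOf_dvd_iff_pow_eq_one.1 ?_)
        rw [hk]
        calc p ^ k ∣ p ^ 1 := pow_dvd_pow p (by omega)
          _ = p := pow_one p
      have hy : orderOf (x ^ p ^ (k - 2)) = p ^ 2 := by
        rw [orderOf_pow' _ (pow_ne_zero _ hp.out.ne_zero), hk,
          Nat.gcd_eq_right (pow_dvd_pow p (Nat.sub_le k 2)),
          Nat.pow_div (Nat.sub_le k 2) hp.out.pos, Nat.sub_sub_self hk2]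
      obtain ⟨e⟩ := h (zpowers (x ^ p ^ (k - 2))) E (by rw [Nat.card_zpowers, hy, hEcard, sq])
      have h1 : (⟨_, mem_zpowers (x ^ p ^ (k - 2))⟩ : zpowers (x ^ p ^ (k - 2))) ^ p = 1 :=
        e.injective (by rw [map_pow, map_one, hEp])
      have h2 := orderOf_dvd_of_pow_eq_one (congrArg Subtype.val h1 :)
      rw [hy] at h2
      have h3 := Nat.le_of_dvd hp.out.pos h2
      have h4 : p * 2 ≤ p ^ 2 := by rw [sq]; exact Nat.mul_le_mul_left p hp.out.two_le
      have := hp.out.two_le
      omega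
    by_cases hc : IsMulCommutative P
    · exact Or.inr (Or.inl ⟨hc, hexp⟩)
    · have hp2 : p ≠ 2 := by
        rintro rfl
        refine hc ⟨⟨fun a b => ?_⟩⟩
        have hinv : ∀ x : P, x⁻¹ = x := fun x => inv_eq_of_mul_eq_one_right (by rw [← sq, hexp])
        calc a * b = (a * b)⁻¹ := (hinv _).symm
          _ = b * a := by rw [mul_inv_rev, hinv, hinv]
      refine Or.inr (Or.inr (Or.inr ⟨hp2, hc, ?_, hexp⟩))
      obtain ⟨N, hN, hNcard⟩ := exists_noncomm_cube hP hexp hc
      by_contra hne3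
      obtain ⟨n, hn⟩ := IsPGroup.iff_card.1 hP
      have h3n : 3 ≤ n := (Nat.pow_le_pow_iff_right hp.out.one_lt).1
        (by rw [← hNcard, ← hn]; exact card_le_card_group N)
      have hn3 : n ≠ 3 := fun e => hne3 (by rw [hn, e])
      obtain ⟨A, hA, hAcard⟩ := exists_comm_cube hP hexp
        (hn ▸ Nat.pow_le_pow_right hp.out.pos (by omega))
      exact hN (hcomm N A (hNcard.trans hAcard.symm) hA)

end Cfsg.Agent.Lib.GS.ConjPSub
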