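import Mathlib

/-! Subgroups of dihedral groups. -/

set_option autoImplicit false

namespace Cfsg.Agent.Lib.GS.DihedralSub

open DihedralGroup

variable {n : ℕ}

/-- The rotations and the reflections with index in `S`. -/
def dih (S : AddSubgroup (ZMod n)) : Subgroup (DihedralGroup n) where
  carrier := {x | match x with | r i => i ∈ S | sr i => i ∈ S}
  one_mem' := S.zero_mem
  mul_mem' := by
    rintro (i | i) (j | j) (hi : i ∈ S) (hj : j ∈ S)
    · exact S.add_mem hi hj
    · exact S.sub_mem hj hi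
    · exact S.add_mem hi hj
    · exact S.sub_mem hj hi
  inv_mem' := by
    rintro (i | i) (hi : i ∈ S)
    · exact S.neg_mem hi
    · exact hi

theorem r_mem_dih (S : AddSubgroup (ZMod n)) (i : ZMod n) : r i ∈ dih S ↔ i ∈ S := Iff.rfl

theorem sr_mem_dih (S : AddSubgroup (ZMod n)) (i : ZMod n) : sr i ∈ dih S ↔ i ∈ S := Iff.rfl

theorem commute_r_sr {i j : ZMod n} : Commute (r i : DihedralGroup n) (sr j) ↔ i + i = 0 := by
  rw [commute_iff_eq, r_mul_sr, sr_mul_r, DihedralGroup.sr.injEq]
  constructor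
  · intro h; linear_combination -h
  · intro h; linear_combination -h

theorem dih_not_commutative (S : AddSubgroup (ZMod n)) {j : ZMod n} (hj : j ∈ S) (h2 : j + j ≠ 0) :
    ¬ IsMulCommutative (dih S) := fun h =>
  h2 (commute_r_sr.1 (congrArg Subtype.val (h.1.1 ⟨r j, hj⟩ ⟨sr 0, S.zero_mem⟩)))

/-- A noncyclic subgroup contains a reflection and a nontrivial rotation. -/
theorem exists_of_not_isCyclic [NeZero n] (H : Subgroup (DihedralGroup n)) (hH : ¬ IsCyclic H) :
    ∃ i j : ZMod n, sr i ∈ H ∧ r j ∈ H ∧ j ≠ 0 := by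
  have hle : ∀ x : DihedralGroup n, H ≤ Subgroup.zpowers x → False := fun x h =>
    hH (isCyclic_of_injective (Subgroup.inclusion h) (Subgroup.inclusion_injective h))
  by_cases hs : ∃ i, sr i ∈ H
  · obtain ⟨i, hi⟩ := hs
    refine by_contra fun hcon => hle (sr i) ?_
    simp only [not_exists, not_and, not_not] at hcon
    rintro (j | j) hj
    · rw [hcon i j hi hj]; exact one_mem _
    · have := hcon i (j - i) hi (by rw [← sr_mul_sr]; exact mul_mem hi hj)
      rw [sub_eq_zero.1 this]; exact Subgroup.mem_zpowers _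
  · refine (hle (r 1) ?_).elim
    rintro (j | j) hj
    · exact Subgroup.mem_zpowers_iff.2 ⟨j.val, by rw [zpow_natCast, r_one_pow, ZMod.natCast_zmod_val]⟩
    · exact absurd ⟨j, hj⟩ hs

theorem eq_zero_of_add_self_odd (hn : Odd n) {k : ZMod n} (h : k + k = 0) : k = 0 := by
  obtain ⟨m, hm⟩ := hn
  have : ((2 * m + 1 : ℕ) : ZMod n) = 0 := by rw [← hm]; exact ZMod.natCast_self n
  push_cast at this
  linear_combination k * this - (m : ZMod n) * h

theorem half_mem_zmod (hn : Odd n) (S : AddSubgroup (ZMod n)) {k : ZMod n} (h : k + k ∈ S) : k ∈ S := by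
  obtain ⟨m, hm⟩ := hn
  have h0 : ((2 * m + 1 : ℕ) : ZMod n) = 0 := by rw [← hm]; exact ZMod.natCast_self n
  push_cast at h0
  have : k = (m + 1) • (k + k) := by
    rw [nsmul_eq_mul]; push_cast; linear_combination (-k) * h0
  rw [this]
  exact S.nsmul_mem h _

/-- The rotation indices of a subgroup. -/
def rot (H : Subgroup (DihedralGroup n)) : AddSubgroup (ZMod n) where
  carrier := {j | r j ∈ H}
  zero_mem' := H.one_mem
  add_mem' := fun ha hb => H.mul_mem ha hb
  neg_mem' := fun ha => H.inv_mem ha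

end Cfsg.Agent.Lib.GS.DihedralSub
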