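import Mathlib

/-! Frobenius' theorem on the number of solutions of `x ^ m = 1`. -/

set_option autoImplicit false

namespace Cfsg.Agent.Lib.GS.FrobeniusCount

universe u

open Subgroup

/-- Elements killed by `R * S` with coprime `R`, `S`, sorted by their `R`-part. -/
theorem count_decomp {G : Type*} [Group G] [Finite G] {R S e f : ℕ} (hcop : Nat.Coprime R S)
    (he1 : e ≡ 1 [MOD R]) (he0 : e ≡ 0 [MOD S]) (hf0 : f ≡ 0 [MOD R]) (hf1 : f ≡ 1 [MOD S])
    (Q : G → Prop) :
    Nat.card {g : G // g ^ (R * S) = 1 ∧ Q (g ^ e)} =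
      Nat.card (Σ h : {h : G // h ^ R = 1 ∧ Q h}, {k : centralizer ({(h : G)} : Set G) // k ^ S = 1}) := by
  have hpe : ∀ {x : G} {N a b : ℕ}, x ^ N = 1 → a ≡ b [MOD N] → x ^ a = x ^ b := by
    intro x N a b hx hab
    rw [pow_eq_pow_mod a hx, pow_eq_pow_mod b hx, hab]
  symm
  have key : ∀ (h : {h : G // h ^ R = 1 ∧ Q h}) (k : {k : centralizer ({(h : G)} : Set G) // k ^ S = 1}),
      ((h : G) * k.1) ^ e = h ∧ ((h : G) * k.1) ^ (R * S) = 1 := by
    intro h k
    have hc : Commute (h : G) k.1 := (mem_centralizer_singleton_iff.1 k.1.2).symm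
    have hk : ((k.1 : G)) ^ S = 1 := congrArg Subtype.val k.2
    constructor
    · rw [hc.mul_pow, hpe h.2.1 he1, hpe hk he0, pow_one, pow_zero, mul_one]
    · rw [hc.mul_pow, pow_mul, h.2.1, one_pow, one_mul, mul_comm R S, pow_mul, hk, one_pow]
  refine Nat.card_eq_of_bijective (fun x => ⟨(x.1 : G) * x.2.1,
    (key x.1 x.2).2, by rw [(key x.1 x.2).1]; exact x.1.2.2⟩) ⟨?_, ?_⟩
  · rintro ⟨h, k⟩ ⟨h', k'⟩ heq
    have heq' : (h : G) * k.1 = (h' : G) * k'.1 := congrArg Subtype.val heq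
    obtain rfl : h = h' := Subtype.ext (by rw [← (key h k).1, heq', (key h' k').1])
    obtain rfl : k = k' := Subtype.ext (Subtype.ext (mul_left_cancel heq'))
    rfl
  · rintro ⟨g, hg, hQ⟩
    have hR : (g ^ e) ^ R = 1 := by
      rw [← pow_mul, hpe hg (b := 0) ?_, pow_zero]
      exact Nat.modEq_zero_iff_dvd.2 (by
        rw [mul_comm R S]; exact Nat.mul_dvd_mul_right (Nat.modEq_zero_iff_dvd.1 he0) R)
    have hS : (g ^ f) ^ S = 1 := by
      rw [← pow_mul, hpe hg (b := 0) ?_, pow_zero]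
      exact Nat.modEq_zero_iff_dvd.2 (Nat.mul_dvd_mul_right (Nat.modEq_zero_iff_dvd.1 hf0) S)
    refine ⟨⟨⟨g ^ e, hR, hQ⟩, ⟨⟨g ^ f, mem_centralizer_singleton_iff.2 (Commute.pow_pow_self g f e).eq⟩,
      Subtype.ext hS⟩⟩, Subtype.ext ?_⟩
    change g ^ e * g ^ f = g
    rw [← pow_add]
    conv_rhs => rw [← pow_one g]
    refine hpe hg ((Nat.modEq_and_modEq_iff_modEq_mul hcop).1 ⟨?_, ?_⟩)
    · simpa using he1.add hf0
    · simpa using he0.add hf1

/-- Summing a class function: divisibility class by class. -/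
theorem dvd_card_sigma {G : Type*} [Group G] [Finite G] (d : ℕ) (P : G → Prop)
    (hP : ∀ g h : G, P h → P (g * h * g⁻¹)) (N : G → ℕ) (hN : ∀ g h : G, N (g * h * g⁻¹) = N h)
    (T : {h : G // P h} → Type*) [∀ h, Finite (T h)] (hT : ∀ h, Nat.card (T h) = N h)
    (hd : ∀ h, P h → d ∣ (centralizer ({h} : Set G)).index * N h) : d ∣ Nat.card (Sigma T) := by
  classical
  have := Fintype.ofFinite G
  rw [Nat.card_sigma]
  simp only [hT]
  rw [← Finset.sum_subtype (Finset.univ.filter P) (fun x => by simp) N,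
    ← Finset.sum_fiberwise (Finset.univ.filter P) ConjClasses.mk N]
  refine Finset.dvd_sum fun c _ => ?_
  rcases Finset.eq_empty_or_nonempty ((Finset.univ.filter P).filter fun i => ConjClasses.mk i = c) with
    h0 | ⟨h, hh⟩
  · rw [h0]; simp
  simp only [Finset.mem_filter, Finset.mem_univ, true_and] at hh
  obtain ⟨hPh, rfl⟩ := hh
  have hset : ((Finset.univ.filter P).filter fun i => ConjClasses.mk i = ConjClasses.mk h) =
      (ConjClasses.mk h).carrier.toFinset := by
    ext x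
    simp only [Finset.mem_filter, Finset.mem_univ, true_and, Set.mem_toFinset, ConjClasses.mem_carrier_iff_mk_eq]
    refine ⟨fun hx => hx.2, fun hx => ⟨?_, hx⟩⟩
    obtain ⟨g, hg⟩ := isConj_iff.1 (ConjClasses.mk_eq_mk_iff_isConj.1 hx).symm
    exact hg ▸ hP g h hPh
  rw [hset, Finset.sum_const_nat (m := N h) (fun x hx => ?_)]
  · rw [← Set.ncard_eq_toFinset_card', ← Nat.card_coe_set_eq, ← ConjAct.orbit_eq_carrier_conjClasses,
      Nat.card_congr (MulAction.orbitEquivQuotientStabilizer (ConjAct G) h), ← Subgroup.index_eq_card,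
      ConjAct.stabilizer_eq_centralizer]
    exact hd h hPh
  · rw [Set.mem_toFinset, ConjClasses.mem_carrier_iff_mk_eq] at hx
    obtain ⟨g, hg⟩ := isConj_iff.1 (ConjClasses.mk_eq_mk_iff_isConj.1 hx).symm
    rw [← hg, hN]

/-- The number of solutions in the centralizer is a class function. -/
theorem card_centralizer_roots_conj {G : Type*} [Group G] (g h : G) (S : ℕ) :
    Nat.card {k : centralizer ({g * h * g⁻¹} : Set G) // k ^ S = 1} =
      Nat.card {k : centralizer ({h} : Set G) // k ^ S = 1} := by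
  symm
  refine Nat.card_eq_of_bijective (fun k => ⟨⟨g * k.1 * g⁻¹, mem_centralizer_singleton_iff.2 ?_⟩,
    Subtype.ext ?_⟩) ⟨?_, ?_⟩
  · have hc := mem_centralizer_singleton_iff.1 k.1.2
    calc g * (k.1 : G) * g⁻¹ * (g * h * g⁻¹) = g * ((k.1 : G) * h) * g⁻¹ := by group
      _ = g * h * g⁻¹ * (g * (k.1 : G) * g⁻¹) := by rw [hc]; group
  · have hk : ((k.1 : G)) ^ S = 1 := congrArg Subtype.val k.2
    simp [conj_pow, hk]
  · intro a b hab
    refine Subtype.ext (Subtype.ext ?_)
    have := congrArg (fun x => (x.1 : G)) hab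
    simpa using this
  · rintro ⟨⟨x, hx⟩, hxS⟩
    have hc := mem_centralizer_singleton_iff.1 hx
    have hxS' : x ^ S = 1 := congrArg Subtype.val hxS
    refine ⟨⟨⟨g⁻¹ * x * g, mem_centralizer_singleton_iff.2 ?_⟩, Subtype.ext ?_⟩,
      Subtype.ext (Subtype.ext (by simp [mul_assoc]))⟩
    · calc g⁻¹ * x * g * h = g⁻¹ * (x * (g * h * g⁻¹)) * g := by group
        _ = h * (g⁻¹ * x * g) := by rw [hc]; group
    · have := conj_pow (i := S) (a := g⁻¹) (b := x)
      rw [inv_inv] at this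
      simp [this, hxS']

/-- **Frobenius' theorem.** -/
theorem dvd_card_roots : ∀ (n : ℕ) (G : Type u) [Group G] [Finite G], Nat.card G = n →
    ∀ m : ℕ, m ∣ Nat.card G → m ∣ Nat.card {g : G // g ^ m = 1} := by
  classical
  intro n
  induction n using Nat.strong_induction_on with
  | _ n ih =>
  intro G _ _ hn m hm
  have := Fintype.ofFinite G
  obtain ⟨j, hj⟩ : ∃ j, j = Nat.card G / m := ⟨_, rfl⟩
  induction j using Nat.strong_induction_on generalizing m with
  | _ j ihj =>
  obtain ⟨c, hc⟩ := hm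
  rcases eq_or_ne c 1 with rfl | hc1
  · rw [mul_one] at hc
    have : Nat.card {g : G // g ^ m = 1} = Nat.card G :=
      Nat.card_congr (Equiv.subtypeUnivEquiv fun g => hc ▸ pow_card_eq_one')
    rw [this, hc]
  obtain ⟨p, hp, c', rfl⟩ := Nat.exists_prime_and_dvd hc1
  haveI := Fact.mk hp
  have hG0 : 0 < Nat.card G := Nat.card_pos
  have hm0 : 0 < m := Nat.pos_of_ne_zero fun h => by simp [h] at hc
  have hmp : m * p ∣ Nat.card G := ⟨c', by rw [hc, mul_assoc]⟩
  have hbig : m ∣ Nat.card {g : G // g ^ (m * p) = 1} := by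
    refine dvd_trans (Dvd.intro p rfl) (ihj _ ?_ (m * p) hmp rfl)
    rw [hj, hc, Nat.mul_div_cancel_left _ hm0, ← mul_assoc, Nat.mul_div_cancel_left _ (Nat.mul_pos hm0 hp.pos)]
    exact lt_mul_left (Nat.pos_of_ne_zero fun h => by simp [h] at hc) hp.one_lt
  have hsplit : Nat.card {g : G // g ^ (m * p) = 1} =
      Nat.card {g : G // g ^ m = 1} + Nat.card {g : G // g ^ (m * p) = 1 ∧ g ^ m ≠ 1} := by
    rw [Nat.card_eq_fintype_card, Nat.card_eq_fintype_card, Nat.card_eq_fintype_card, Fintype.card_subtype,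
      Fintype.card_subtype, Fintype.card_subtype,
      ← Finset.card_filter_add_card_filter_not (s := Finset.univ.filter fun g : G => g ^ (m * p) = 1) (fun g => g ^ m = 1),
      Finset.filter_filter, Finset.filter_filter]
    congr 2
    ext g
    simp only [Finset.mem_filter, Finset.mem_univ, true_and]
    exact ⟨fun h => h.2, fun h => ⟨by rw [pow_mul, h, one_pow], h⟩⟩
  suffices hA : m ∣ Nat.card {g : G // g ^ (m * p) = 1 ∧ g ^ m ≠ 1} by
    rw [hsplit] at hbig
    exact (Nat.dvd_add_left hA).1 hbig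
  obtain ⟨a, s, hps, hms⟩ : ∃ a s, ¬ p ∣ s ∧ m = p ^ a * s := Nat.exists_eq_pow_mul_and_not_dvd hm0.ne' p hp.ne_one
  have hcop : Nat.Coprime (p ^ (a + 1)) s := Nat.Coprime.pow_left _ (hp.coprime_iff_not_dvd.2 hps)
  rw [hms]
  refine Nat.Coprime.mul_dvd_of_dvd_of_dvd (Nat.Coprime.pow_left _ (hp.coprime_iff_not_dvd.2 hps)) ?_ ?_
  · -- the generators of each cyclic subgroup
    rw [← hms, Nat.card_eq_fintype_card, Fintype.card_subtype,
      Finset.card_eq_sum_card_fiberwise (f := Subgroup.zpowers) (t := Finset.univ) (fun x _ => Finset.mem_univ _)]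
    refine Finset.dvd_sum fun C _ => ?_
    rcases Finset.eq_empty_or_nonempty ((Finset.univ.filter fun g : G => g ^ (m * p) = 1 ∧ g ^ m ≠ 1).filter
      fun g => zpowers g = C) with h0 | ⟨g, hg⟩
    · rw [h0]; simp
    simp only [Finset.mem_filter, Finset.mem_univ, true_and] at hg
    obtain ⟨⟨hg1, hg2⟩, rfl⟩ := hg
    have hcard : ((Finset.univ.filter fun x : G => x ^ (m * p) = 1 ∧ x ^ m ≠ 1).filter
        fun x => zpowers x = zpowers g).card =
        (Finset.univ.filter fun x : zpowers g => orderOf x = orderOf g).card := by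
      symm
      refine Finset.card_bij (fun x _ => (x : G)) ?_ (fun _ _ _ _ h => Subtype.ext h) ?_
      · intro x hx
        simp only [Finset.mem_filter, Finset.mem_univ, true_and] at hx ⊢
        rw [← Subgroup.orderOf_coe] at hx
        refine ⟨⟨?_, ?_⟩, eq_of_le_of_card_ge (zpowers_le.2 x.2) (by rw [Nat.card_zpowers, Nat.card_zpowers, hx])⟩
        · rw [← orderOf_dvd_iff_pow_eq_one, hx, orderOf_dvd_iff_pow_eq_one]; exact hg1
        · rw [Ne, ← orderOf_dvd_iff_pow_eq_one, hx, orderOf_dvd_iff_pow_eq_one]; exact hg2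
      · intro x hx
        simp only [Finset.mem_filter, Finset.mem_univ, true_and] at hx ⊢
        refine ⟨⟨x, hx.2 ▸ mem_zpowers x⟩, ?_, rfl⟩
        rw [Subgroup.orderOf_mk, ← Nat.card_zpowers, hx.2, Nat.card_zpowers]
    rw [hcard, IsCyclic.card_orderOf_eq_totient (by rw [← Nat.card_eq_fintype_card, Nat.card_zpowers])]
    have hd : p ^ (a + 1) ∣ orderOf g := by
      have h1 : orderOf g ∣ p ^ (a + 1) * s := by
        rw [orderOf_dvd_iff_pow_eq_one, pow_succ, mul_right_comm, ← hms]; exact hg1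
      obtain ⟨x, y, hx, hy, hxy⟩ := exists_dvd_and_dvd_of_dvd_mul h1
      obtain ⟨i, hi, rfl⟩ := (Nat.dvd_prime_pow hp).1 hx
      rcases Nat.lt_or_ge i (a + 1) with hlt | hge
      · refine absurd (orderOf_dvd_iff_pow_eq_one.1 ?_) hg2
        rw [hxy, hms]; exact mul_dvd_mul (pow_dvd_pow p (by omega)) hy
      · rw [hxy]; exact dvd_mul_of_dvd_left (pow_dvd_pow p hge) _
    refine dvd_trans ?_ (Nat.totient_dvd_of_dvd hd)
    rw [Nat.totient_prime_pow hp (Nat.succ_pos a)]
    exact Dvd.intro _ rfl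
  · -- the decomposition by the `p`-part
    rw [← hms]
    obtain ⟨e, he1, he0⟩ := Nat.chineseRemainder hcop 1 0
    obtain ⟨f, hf0, hf1⟩ := Nat.chineseRemainder hcop 0 1
    have hsm : s ∣ m := hms ▸ dvd_mul_left _ _
    have hA : Nat.card {g : G // g ^ (m * p) = 1 ∧ g ^ m ≠ 1} =
        Nat.card {g : G // g ^ (p ^ (a + 1) * s) = 1 ∧ (g ^ e) ^ m ≠ 1} := by
      refine Nat.card_congr (Equiv.subtypeEquivRight fun g => ?_)
      have hmp' : p ^ (a + 1) * s = m * p := by rw [hms, pow_succ]; ring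
      rw [hmp']
      refine and_congr_right fun hg => ?_
      have : (g ^ e) ^ m = g ^ m := by
        rw [← pow_mul, pow_eq_pow_mod (e * m) hg, pow_eq_pow_mod m hg]
        congr 1
        have h1 : e * m ≡ m [MOD p ^ (a + 1)] := by simpa using he1.mul_right m
        have h2 : e * m ≡ m [MOD s] := by
          have hm' : m ≡ 0 [MOD s] := Nat.modEq_zero_iff_dvd.2 hsm
          simpa using ((he0.mul_right m).trans (by simp; rfl)).trans hm'.symm
        exact hmp' ▸ (Nat.modEq_and_modEq_iff_modEq_mul hcop).1 ⟨h1, h2⟩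
      rw [this]
    rw [hA, count_decomp hcop he1 he0 hf0 hf1 (fun h => h ^ m ≠ 1)]
    refine dvd_card_sigma s (fun h => h ^ (p ^ (a + 1)) = 1 ∧ h ^ m ≠ 1) ?_
      (fun h => Nat.card {k : centralizer ({h} : Set G) // k ^ s = 1})
      (fun g h => card_centralizer_roots_conj g h s) _ (fun h => rfl) ?_
    · rintro g h ⟨h1, h2⟩
      refine ⟨by rw [conj_pow, h1]; group, fun h' => h2 ?_⟩
      rw [conj_pow] at h'
      simpa using h'
    rintro h ⟨h1, h2⟩
    set C := centralizer ({h} : Set G) with hC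
    have hho : orderOf h = p ^ (a + 1) := by
      obtain ⟨i, hi, hio⟩ := (Nat.dvd_prime_pow hp).1 (orderOf_dvd_of_pow_eq_one h1)
      rcases Nat.lt_or_ge i (a + 1) with hlt | hge
      · refine absurd (orderOf_dvd_iff_pow_eq_one.1 ?_) h2
        rw [hio, hms]; exact dvd_mul_of_dvd_left (pow_dvd_pow p (by omega)) _
      · rw [hio, Nat.le_antisymm hi hge]
    set h' : C := ⟨h, mem_centralizer_singleton_iff.2 rfl⟩
    haveI hnorm : (zpowers h').Normal := ⟨fun x hx g => by
      obtain ⟨i, rfl⟩ := mem_zpowers_iff.1 hx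
      have hcm : Commute g h' := Subtype.ext (mem_centralizer_singleton_iff.1 g.2)
      rw [(hcm.zpow_right i).eq, mul_inv_cancel_right]
      exact hx⟩
    have hZ : Nat.card (zpowers h') = p ^ (a + 1) := by
      rw [Nat.card_zpowers, Subgroup.orderOf_mk, hho]
    have hCq : Nat.card C = Nat.card (C ⧸ zpowers h') * p ^ (a + 1) := by
      rw [Subgroup.card_eq_card_quotient_mul_card_subgroup (zpowers h'), hZ]
    have hlt : Nat.card (C ⧸ zpowers h') < n := by
      have h3 : Nat.card C ≤ n := hn ▸ Nat.le_of_dvd hG0 (card_subgroup_dvd_card C)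
      have h4 : 1 < p ^ (a + 1) := Nat.one_lt_pow (Nat.succ_ne_zero a) hp.one_lt
      have h5 : 0 < Nat.card (C ⧸ zpowers h') := Nat.card_pos
      nlinarith
    have hroots : Nat.card {k : C // k ^ s = 1} = Nat.card {x : C ⧸ zpowers h' // x ^ s = 1} := by
      refine Nat.card_eq_of_bijective (fun k => ⟨(k.1 : C ⧸ zpowers h'), by
        rw [← QuotientGroup.mk_pow, k.2, QuotientGroup.mk_one]⟩) ⟨?_, ?_⟩
      · rintro ⟨k, hk⟩ ⟨k', hk'⟩ heq
        have hz := QuotientGroup.eq.1 (congrArg Subtype.val heq)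
        simp only at hz
        obtain ⟨i, hi⟩ := mem_zpowers_iff.1 hz
        have hcm : Commute k (k⁻¹ * k') := by
          rw [← hi]; exact (Commute.zpow_right (Subtype.ext (mem_centralizer_singleton_iff.1 k.2) : Commute k h') i)
        have hzs : (k⁻¹ * k') ^ s = 1 := by
          have := hcm.mul_pow s
          rw [mul_inv_cancel_left, hk', hk, one_mul] at this
          exact this.symm
        have hzp : (k⁻¹ * k') ^ (p ^ (a + 1)) = 1 := by
          rw [← orderOf_dvd_iff_pow_eq_one, ← hZ, Nat.card_zpowers]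
          exact orderOf_dvd_of_mem_zpowers hz
        have h1 : k⁻¹ * k' = 1 := orderOf_eq_one_iff.1 (Nat.eq_one_of_dvd_coprimes hcop
          (orderOf_dvd_iff_pow_eq_one.2 hzp) (orderOf_dvd_iff_pow_eq_one.2 hzs))
        exact Subtype.ext (inv_mul_eq_one.1 h1)
      · rintro ⟨x, hx⟩
        obtain ⟨k, rfl⟩ := QuotientGroup.mk_surjective x
        refine ⟨⟨k ^ f, ?_⟩, Subtype.ext ?_⟩
        · have hks : k ^ s ∈ zpowers h' := by rw [← QuotientGroup.eq_one_iff, QuotientGroup.mk_pow]; exact hx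
          rw [← pow_mul, mul_comm, pow_mul, ← orderOf_dvd_iff_pow_eq_one]
          have h5 := orderOf_dvd_of_mem_zpowers hks
          rw [← Nat.card_zpowers h', hZ] at h5
          exact h5.trans (Nat.modEq_zero_iff_dvd.1 hf0)
        · change ((k ^ f : C) : C ⧸ zpowers h') = _
          rw [QuotientGroup.mk_pow, pow_eq_pow_mod f hx, hf1, ← pow_eq_pow_mod 1 hx, pow_one]
    rw [hroots]
    have hgcd : Nat.card {x : C ⧸ zpowers h' // x ^ s = 1} =
        Nat.card {x : C ⧸ zpowers h' // x ^ Nat.gcd s (Nat.card C) = 1} := by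
      refine Nat.card_congr (Equiv.subtypeEquivRight fun x => ?_)
      rw [hCq, Nat.Coprime.gcd_mul_right_cancel_right _ hcop, ← orderOf_dvd_iff_pow_eq_one,
        ← orderOf_dvd_iff_pow_eq_one, Nat.dvd_gcd_iff, and_iff_left (orderOf_dvd_natCard x)]
    rw [hgcd]
    refine dvd_trans ?_ (Nat.mul_dvd_mul_left _ (ih _ hlt (C ⧸ zpowers h') rfl _ ?_))
    · rw [Nat.gcd_comm s, ← Nat.gcd_mul_left]
      refine Nat.dvd_gcd ?_ (dvd_mul_left _ _)
      rw [mul_comm, Subgroup.card_mul_index]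
      exact hsm.trans (Dvd.intro _ hc.symm)
    · rw [hCq, Nat.Coprime.gcd_mul_right_cancel_right _ hcop]; exact Nat.gcd_dvd_right _ _

end Cfsg.Agent.Lib.GS.FrobeniusCount
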