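import Cfsg.Agent.Lib.LocalP2.SubnormalJoin
import Cfsg.Agent.Lib.Hall.Solvable

/-! Wielandt's join theorem: two subnormal subgroups of a finite group generate a subnormal one. -/

set_option autoImplicit false

namespace Cfsg.Agent.Lib.GS

universe u

open Subgroup

theorem isSubnormal_sup_aux : ∀ (n : ℕ) (G : Type u) [Group G] [Finite G], Nat.card G = n →
    ∀ A B : Subgroup G, A.IsSubnormal → B.IsSubnormal → (A ⊔ B).IsSubnormal := by
  intro n
  induction n using Nat.strong_induction_on with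
  | _ n ih => ?_
  intro G _ _ hn A B hA hB
  by_cases hbot : (⊤ : Subgroup G) = ⊥
  · rw [eq_bot_iff.2 ((le_top (a := A ⊔ B)).trans hbot.le)]
    exact IsSubnormal.bot
  obtain ⟨N, hNn, hNne, -, hmin⟩ := Hall.exists_minimal_normal_le (N := (⊤ : Subgroup G)) hbot
  have hlt : Nat.card (G ⧸ N) < n := by
    rw [← hn, card_eq_card_quotient_mul_card_subgroup N]
    exact lt_mul_of_one_lt_right Nat.card_pos (one_lt_card_iff_ne_bot N |>.2 hNne)
  have hπ := QuotientGroup.mk'_surjective N
  have h1 := (ih _ hlt (G ⧸ N) rfl _ _ (hA.map hπ) (hB.map hπ)).comap (QuotientGroup.mk' N)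
  rw [← Subgroup.map_sup, comap_map_eq, QuotientGroup.ker_mk'] at h1
  refine IsSubnormal.step _ _ le_sup_left h1 ?_
  rw [normal_subgroupOf_iff_le_normalizer le_sup_left]
  refine sup_le le_normalizer fun x hx => ?_
  refine mem_normalizer_fintype ?_
  intro z hz
  have hxA := LocalP2.minimal_normal_le_nz_of_subnormal _ G rfl N A hNn hmin hA hx
  have hxB := LocalP2.minimal_normal_le_nz_of_subnormal _ G rfl N B hNn hmin hB hx
  have : A ⊔ B ≤ (A ⊔ B).comap (MulAut.conj x).toMonoidHom :=
    sup_le (fun a ha => mem_sup_left ((mem_normalizer_iff.1 hxA a).1 ha))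
      fun b hb => mem_sup_right ((mem_normalizer_iff.1 hxB b).1 hb)
  exact this hz

theorem isSubnormal_sup {G : Type u} [Group G] [Finite G] {A B : Subgroup G} (hA : A.IsSubnormal)
    (hB : B.IsSubnormal) : (A ⊔ B).IsSubnormal :=
  isSubnormal_sup_aux _ G rfl A B hA hB

end Cfsg.Agent.Lib.GS
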