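import Mathlib
import Cfsg.Agent.Lib.Thompson.Cyclic
import Cfsg.Agent.Lib.Uniq.PGroup

/-! Miller's theorem: in a noncyclic `p`-group, `p` odd, the number of elements of order `p ^ s`, `2 ≤ s`,
is a multiple of `p ^ s`. -/

set_option autoImplicit false

namespace Cfsg.Agent.Lib.GS.MillerCount

open scoped commutatorElement

variable {G : Type*} [Group G] [Finite G] {n : ℕ}

/-- The elements of order `n` are counted by the cyclic subgroups of order `n`. -/
theorem card_orderOf_eq (G : Type*) [Group G] [Finite G] (n : ℕ) :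
    Nat.card {x : G // orderOf x = n} = n.totient * Nat.card {H : Subgroup G // IsCyclic H ∧ Nat.card H = n} := by
  classical
  have := Fintype.ofFinite G
  let f : {x : G // orderOf x = n} → {H : Subgroup G // IsCyclic H ∧ Nat.card H = n} := fun x =>
    ⟨Subgroup.zpowers (x : G), inferInstance, by rw [Nat.card_zpowers]; exact x.2⟩
  have hfib : ∀ H, Nat.card {x // f x = H} = n.totient := by
    intro H
    have := H.2.1
    have e : {x // f x = H} ≃ {y : ↥(H : Subgroup G) // orderOf y = n} :=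
      { toFun := fun x => ⟨⟨(x.1 : G), congrArg Subtype.val x.2 ▸ Subgroup.mem_zpowers _⟩,
          (Subgroup.orderOf_mk _ _).trans x.1.2⟩
        invFun := fun y => ⟨⟨((y.1 : ↥(H : Subgroup G)) : G), by rw [Subgroup.orderOf_coe]; exact y.2⟩, by
          refine Subtype.ext (Subgroup.eq_of_le_of_card_ge (Subgroup.zpowers_le.2 y.1.2) ?_)
          rw [H.2.2]
          show n ≤ Nat.card (Subgroup.zpowers ((y.1 : ↥(H : Subgroup G)) : G))
          rw [Nat.card_zpowers, Subgroup.orderOf_coe, y.2]⟩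
        left_inv := fun x => rfl
        right_inv := fun y => rfl }
    rw [Nat.card_congr e, Nat.card_eq_fintype_card, Fintype.card_subtype]
    exact IsCyclic.card_orderOf_eq_totient (by rw [← Nat.card_eq_fintype_card]; exact dvd_of_eq H.2.2.symm)
  rw [← Nat.card_congr (Equiv.sigmaFiberEquiv f), Nat.card_sigma]
  simp only [hfib, Finset.sum_const, Finset.card_univ, smul_eq_mul, mul_comm, Nat.card_eq_fintype_card]

/-- A union of cosets of `D` whose images have order `m` and are closed under the powers prime to `m`. -/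
theorem dvd_of_union (D : Subgroup G) [D.Normal] (m : ℕ) (X : Set G)
    (hcl : ∀ x ∈ X, ∀ d ∈ D, x * d ∈ X) (hpow : ∀ x ∈ X, ∀ k : ℕ, k.Coprime m → x ^ k ∈ X)
    (hord : ∀ x ∈ X, orderOf (QuotientGroup.mk' D x) = m) : Nat.card D * m.totient ∣ Nat.card X := by
  classical
  set π := QuotientGroup.mk' D with hπ
  set Y : Set (G ⧸ D) := π '' X with hY
  have e : X ≃ {x : G // π x ∈ Y} := (Equiv.refl G).subtypeEquiv fun x => ⟨fun hx => ⟨x, hx, rfl⟩, by
    rintro ⟨x₀, hx₀, he⟩
    have := hcl x₀ hx₀ _ (QuotientGroup.eq.1 he)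
    simpa using this⟩
  have h1 : Nat.card X = Nat.card D * Nat.card Y := by
    rw [Nat.card_congr e, ← Nat.card_prod]
    exact Nat.card_congr ((Subgroup.groupEquivQuotientProdSubgroup (s := D)).subtypeEquiv (q := fun q => q.1 ∈ Y)
      (fun x => Iff.rfl) |>.trans
        { toFun := fun q => (q.1.2, ⟨q.1.1, q.2⟩)
          invFun := fun q => ⟨(q.2.1, q.1), q.2.2⟩
          left_inv := fun q => rfl
          right_inv := fun q => rfl })
  rw [h1]
  refine Nat.mul_dvd_mul_left _ ?_
  have hYord : ∀ y ∈ Y, orderOf y = m := by rintro _ ⟨x, hx, rfl⟩; exact hord x hx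
  let f : Y → {H : Subgroup (G ⧸ D) // ∃ y ∈ Y, Subgroup.zpowers y = H} := fun y => ⟨_, y, y.2, rfl⟩
  have hfib : ∀ H, Nat.card {y // f y = H} = m.totient := by
    rintro ⟨_, y₀, hy₀, rfl⟩
    have := Fintype.ofFinite (Subgroup.zpowers y₀)
    have e : {y // f y = ⟨_, y₀, hy₀, rfl⟩} ≃ {z : ↥(Subgroup.zpowers y₀) // orderOf z = m} :=
      { toFun := fun y => ⟨⟨(y.1 : G ⧸ D), (congrArg Subtype.val y.2).le (Subgroup.mem_zpowers _)⟩,
          (Subgroup.orderOf_mk _ _).trans (hYord _ y.1.2)⟩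
        invFun := fun z => ⟨⟨((z.1 : ↥(Subgroup.zpowers y₀)) : G ⧸ D), by
          obtain ⟨k, hk⟩ := (isOfFinOrder_of_finite y₀).mem_powers_iff_mem_zpowers.2 z.1.2
          have hk' : y₀ ^ k = z.1 := hk
          rw [← hk']
          obtain ⟨x, hx, hxy⟩ := hy₀
          refine ⟨x ^ k, hpow x hx k ?_, by rw [map_pow, hxy]⟩
          have ho : orderOf y₀ = m := hYord _ ⟨x, hx, hxy⟩
          have h2 : orderOf (y₀ ^ k) = orderOf y₀ / Nat.gcd (orderOf y₀) k := orderOf_pow y₀
          rw [hk', Subgroup.orderOf_coe, z.2, ho] at h2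
          have hm : 0 < m := ho ▸ orderOf_pos y₀
          have h3 : Nat.gcd m k = 1 := by
            rcases (Nat.div_eq_self.1 h2.symm) with h | h
            · omega
            · exact h
          exact (Nat.Coprime.symm h3)⟩, Subtype.ext (Subgroup.eq_of_le_of_card_ge (Subgroup.zpowers_le.2 z.1.2) (by
            show Nat.card (Subgroup.zpowers y₀) ≤ Nat.card (Subgroup.zpowers ((z.1 : ↥(Subgroup.zpowers y₀)) : G ⧸ D))
            rw [Nat.card_zpowers, Nat.card_zpowers, Subgroup.orderOf_coe, z.2, hYord _ hy₀]))⟩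
        left_inv := fun y => rfl
        right_inv := fun z => rfl }
    rw [Nat.card_congr e, Nat.card_eq_fintype_card, Fintype.card_subtype]
    exact IsCyclic.card_orderOf_eq_totient (by rw [← Nat.card_eq_fintype_card, Nat.card_zpowers, hYord _ hy₀])
  have := Fintype.ofFinite {H : Subgroup (G ⧸ D) // ∃ y ∈ Y, Subgroup.zpowers y = H}
  rw [← Nat.card_congr (Equiv.sigmaFiberEquiv f), Nat.card_sigma]
  simp [hfib]

/-- Miller's theorem. -/
theorem dvd_card_orderOf {p : ℕ} [hp : Fact p.Prime] (hp2 : p ≠ 2) (hG : IsPGroup p G) (hnc : ¬ IsCyclic G)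
    (s : ℕ) (hs : 1 < s) : p ^ s ∣ Nat.card {x : G // orderOf x = p ^ s} := by
  classical
  obtain ⟨E, -, hEn, hE, hEc⟩ := Thompson.exists_elemAbelian_normal hp2 hG ⊤
    (fun h => hnc (Subgroup.topEquiv.isCyclic.mp h))
  obtain ⟨z₀, hz₀, hz₀1, hz₀c⟩ := Uniq.exists_central_mem hG E (by
    intro h
    rw [h, Subgroup.card_bot] at hEc
    exact absurd hEc.symm (Nat.one_lt_pow two_ne_zero hp.out.one_lt).ne')
  have hoz : orderOf z₀ = p := orderOf_eq_prime (hE.2 _ hz₀) hz₀1
  set Z := Subgroup.zpowers z₀ with hZ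
  have hZE : Z ≤ E := Subgroup.zpowers_le.2 hz₀
  have hZc : ∀ z ∈ Z, ∀ x : G, x * z = z * x := fun z hz x =>
    Subgroup.mem_center_iff.1 ((Subgroup.zpowers_le.2 hz₀c) hz) x
  haveI hZn : Z.Normal := ⟨fun z hz x => by rw [hZc z hz x, mul_inv_cancel_right]; exact hz⟩
  have hZcard : Nat.card Z = p := (Nat.card_zpowers z₀).trans hoz
  have hEcomm : ∀ a ∈ E, ∀ b ∈ E, a * b = b * a := fun a ha b hb => Uniq.elem_comm hE ha hb
  -- commutators with `E` fall in `Z`
  have hbar : ∀ e ∈ E, ∀ x : G, e⁻¹ * (x⁻¹ * e * x) ∈ Z := by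
    intro e he x
    haveI : (E.map (QuotientGroup.mk' Z)).Normal := hEn.map _ (QuotientGroup.mk'_surjective Z)
    have hcard : Nat.card (E.map (QuotientGroup.mk' Z)) = p := by
      rw [← QuotientGroup.mk'_surjective Z |> fun _ => Subgroup.relIndex_bot_left (E.map (QuotientGroup.mk' Z)),
        ← Subgroup.relIndex_comap, MonoidHom.comap_bot, QuotientGroup.ker_mk']
      have := Subgroup.relIndex_mul_relIndex ⊥ Z E bot_le hZE
      rw [Subgroup.relIndex_bot_left, Subgroup.relIndex_bot_left, hEc, hZcard, pow_two] at this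
      exact Nat.eq_of_mul_eq_mul_left hp.out.pos this
    have hEbar : E.map (QuotientGroup.mk' Z) ≠ ⊥ := fun h => by
      rw [h, Subgroup.card_bot] at hcard; exact hp.out.one_lt.ne hcard
    obtain ⟨c, hc, hc1, hcc⟩ := Uniq.exists_central_mem (hG.to_quotient Z) _ hEbar
    have hle : E.map (QuotientGroup.mk' Z) ≤ Subgroup.center (G ⧸ Z) := by
      have h1 : Subgroup.zpowers c = E.map (QuotientGroup.mk' Z) :=
        Subgroup.eq_of_le_of_card_ge (Subgroup.zpowers_le.2 hc) (by
          rw [hcard]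
          exact Nat.le_of_dvd Nat.card_pos (by
            rw [Nat.card_zpowers]
            obtain ⟨j, hj⟩ := IsPGroup.iff_orderOf.1 (hG.to_quotient Z) c
            rw [hj]
            exact dvd_pow_self p (fun h => hc1 (orderOf_eq_one_iff.1 (by rw [hj, h, pow_zero])))))
      exact h1.symm.le.trans (Subgroup.zpowers_le.2 hcc)
    have h2 := Subgroup.mem_center_iff.1 (hle ⟨e, he, rfl⟩) (QuotientGroup.mk' Z x)
    rw [← QuotientGroup.eq_one_iff]
    simp only [QuotientGroup.mk'_apply] at h2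
    simp only [QuotientGroup.mk_mul, QuotientGroup.mk_inv]
    rw [mul_assoc (_)⁻¹ _ (x : G ⧸ Z), ← h2]
    group
  -- the power formula
  have hpw : ∀ (x : G), ∀ d ∈ E, (x * d) ^ p = x ^ p := by
    intro x d hd
    set c := d⁻¹ * (x⁻¹ * d * x) with hc
    have hcZ : c ∈ Z := hbar d hd x
    have hdx : d * x = x * d * c := by rw [hc]; group
    have hdxk : ∀ k : ℕ, d ^ k * x = x * d ^ k * c ^ k := by
      intro k
      induction k with
      | zero => simp
      | succ k ih =>
        calc d ^ (k + 1) * x = d ^ k * (d * x) := by rw [pow_succ, mul_assoc]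
          _ = (d ^ k * x) * (d * c) := by rw [hdx]; group
          _ = x * d ^ k * c ^ k * d * c := by rw [ih]; group
          _ = x * d ^ k * (d * c ^ k) * c := by rw [mul_assoc (x * d ^ k), hZc _ (Z.pow_mem hcZ k) d]
          _ = x * d ^ (k + 1) * c ^ (k + 1) := by rw [pow_succ d, pow_succ c]; group
    have hk : ∀ k : ℕ, (x * d) ^ k = x ^ k * d ^ k * c ^ (k.choose 2) := by
      intro k
      induction k with
      | zero => simp
      | succ k ih =>
        have hcc : ∀ (i : ℕ) (g : G), c ^ i * g = g * c ^ i := fun i g => (hZc _ (Z.pow_mem hcZ i) g).symm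
        calc (x * d) ^ (k + 1) = x ^ k * d ^ k * (c ^ k.choose 2 * (x * d)) := by rw [pow_succ, ih, mul_assoc]
          _ = x ^ k * (d ^ k * x) * d * c ^ k.choose 2 := by rw [hcc]; group
          _ = x ^ k * x * d ^ k * (c ^ k * d) * c ^ k.choose 2 := by rw [hdxk]; group
          _ = x ^ k * x * (d ^ k * d) * (c ^ k * c ^ k.choose 2) := by rw [hcc]; group
          _ = _ := by rw [← pow_succ, ← pow_succ, ← pow_add, Nat.choose_succ_succ', Nat.choose_one_right]
    rw [hk, hE.2 d hd, mul_one]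
    obtain ⟨t, ht⟩ := hp.out.dvd_choose_self two_ne_zero (lt_of_le_of_ne hp.out.two_le (Ne.symm hp2))
    rw [ht, pow_mul, hE.2 c (hZE hcZ), one_pow, mul_one]
  have hs0 : s ≠ 0 := by omega
  have hcop : ∀ {k t : ℕ}, t ≠ 0 → k.Coprime (p ^ t) → k.Coprime (p ^ s) := fun ht h =>
    Nat.Coprime.pow_right s ((Nat.coprime_pow_right_iff (Nat.pos_of_ne_zero ht) _ _).1 h)
  have hordpow : ∀ x : G, orderOf x = p ^ s → ∀ k : ℕ, k.Coprime (p ^ s) → orderOf (x ^ k) = p ^ s := by
    intro x hx k hk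
    rw [orderOf_pow, hx, Nat.Coprime.gcd_eq_one hk.symm, Nat.div_one]
  set π := QuotientGroup.mk' Z
  -- elements whose last power avoids `Z`
  set X1 : Set G := {x | orderOf x = p ^ s ∧ x ^ p ^ (s - 1) ∉ Z}
  set X2 : Set G := {x | orderOf x = p ^ s ∧ x ^ p ^ (s - 1) ∈ Z}
  have hpk : ∀ (x : G) (d : G), d ∈ E → ∀ i : ℕ, i ≠ 0 → (x * d) ^ p ^ i = x ^ p ^ i := by
    intro x d hd i hi
    obtain ⟨j, rfl⟩ := Nat.exists_eq_succ_of_ne_zero hi
    rw [pow_succ', pow_mul, pow_mul, hpw x d hd]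
  have hordE : ∀ x : G, orderOf x = p ^ s → ∀ d ∈ E, orderOf (x * d) = p ^ s := by
    intro x hx d hd
    obtain ⟨t, rfl⟩ := Nat.exists_eq_succ_of_ne_zero hs0
    refine orderOf_eq_prime_pow ?_ ?_
    · rw [hpk x d hd t (by omega)]
      exact fun h => absurd (Nat.le_of_dvd (pow_pos hp.out.pos _) (hx ▸ orderOf_dvd_of_pow_eq_one h))
        (not_le.2 (Nat.pow_lt_pow_right hp.out.one_lt (Nat.lt_succ_self t)))
    · rw [hpk x d hd _ (by omega), ← hx, pow_orderOf_eq_one]
  have h1 : p ^ s ∣ Nat.card X1 := by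
    have h := dvd_of_union Z (p ^ s) X1
      (fun x hx d hd => ⟨hordE x hx.1 d (hZE hd), by rw [hpk x d (hZE hd) _ (by omega)]; exact hx.2⟩)
      (fun x hx k hk => ⟨hordpow x hx.1 k hk, fun h => hx.2 (by
        obtain ⟨a, ha⟩ := exists_pow_eq_self_of_coprime (x := x ^ p ^ (s - 1)) (n := k) (by
          refine Nat.Coprime.coprime_dvd_right (orderOf_dvd_of_pow_eq_one ?_) hk
          rw [← pow_mul, ← pow_add, show s - 1 + s = s + (s - 1) by omega, pow_add, pow_mul,
            show x ^ p ^ s = 1 by rw [← hx.1]; exact pow_orderOf_eq_one x, one_pow])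
        rw [← ha, show ((x ^ p ^ (s - 1)) ^ k) = (x ^ k) ^ p ^ (s - 1) by rw [← pow_mul, mul_comm, pow_mul]]
        exact Z.pow_mem h a)⟩)
      (fun x hx => by
        obtain ⟨t, rfl⟩ := Nat.exists_eq_succ_of_ne_zero hs0
        refine orderOf_eq_prime_pow ?_ ?_
        · rw [← map_pow]
          exact fun h => hx.2 (by simpa using (QuotientGroup.eq_one_iff _).1 h)
        · rw [← map_pow, ← hx.1, pow_orderOf_eq_one, map_one])
    rw [hZcard, Nat.totient_prime_pow hp.out (by omega), ← mul_assoc, ← pow_succ', Nat.sub_add_cancel (by omega)] at h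
    exact (dvd_mul_right _ _).trans h
  have h2 : p ^ s ∣ Nat.card X2 := by
    haveI := hEn
    have h := dvd_of_union E (p ^ (s - 1)) X2
      (fun x hx d hd => ⟨hordE x hx.1 d hd, by rw [hpk x d hd _ (by omega)]; exact hx.2⟩)
      (fun x hx k hk => ⟨hordpow x hx.1 k (hcop (by omega) hk), by
        rw [← pow_mul, mul_comm, pow_mul]; exact Z.pow_mem hx.2 k⟩)
      (fun x hx => by
        obtain ⟨t, rfl⟩ : ∃ t, s = t + 2 := ⟨s - 2, by omega⟩
        show orderOf _ = p ^ (t + 1)
        refine orderOf_eq_prime_pow ?_ ?_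
        · rw [← map_pow]
          intro h
          have h3 := hE.2 _ ((QuotientGroup.eq_one_iff _).1 h)
          rw [← pow_mul, ← pow_succ] at h3
          exact absurd (Nat.le_of_dvd (pow_pos hp.out.pos _) (hx.1 ▸ orderOf_dvd_of_pow_eq_one h3))
            (not_le.2 (Nat.pow_lt_pow_right hp.out.one_lt (by omega)))
        · rw [← map_pow]
          exact (QuotientGroup.eq_one_iff _).2 (hZE hx.2))
    rw [hEc, Nat.totient_prime_pow hp.out (by omega), ← mul_assoc, ← pow_add,
      show 2 + (s - 1 - 1) = s by omega] at h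
    exact (dvd_mul_right _ _).trans h
  have e : {x : G // orderOf x = p ^ s} ≃ X2 ⊕ X1 :=
    ((Equiv.sumCompl fun x : {x : G // orderOf x = p ^ s} => (x : G) ^ p ^ (s - 1) ∈ Z).symm).trans
      (Equiv.sumCongr (Equiv.subtypeSubtypeEquivSubtypeInter _ fun x : G => x ^ p ^ (s - 1) ∈ Z)
        (Equiv.subtypeSubtypeEquivSubtypeInter _ fun x : G => x ^ p ^ (s - 1) ∉ Z))
  rw [Nat.card_congr e, Nat.card_sum]
  exact dvd_add h2 h1

end Cfsg.Agent.Lib.GS.MillerCount
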