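import Mathlib
import Cfsg.Prelude.Def_Solvable
import Cfsg.Agent.Lib.GS.Sylow
import Cfsg.Agent.Lib.Involution.Basic
import Cfsg.Agent.Lib.Involution.BaerSuzuki
import Cfsg.Agent.Lib.Hall.Basic

/-! Lifting normalising elements, and groups without real elements of odd order. -/

set_option autoImplicit false

namespace Cfsg.Agent.Lib.GS

variable {G : Type*} [Group G] [Finite G]

/-- An element of prime power order in a quotient by a group of coprime order has a lift of the
same order. -/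
theorem exists_lift_same_order (N : Subgroup G) [N.Normal] {r k : ℕ} (hr : r.Prime)
    (hN : ¬ r ∣ Nat.card N) (y : G ⧸ N) (hy : orderOf y = r ^ k) :
    ∃ x : G, QuotientGroup.mk' N x = y ∧ orderOf x = r ^ k := by
  obtain ⟨z, rfl⟩ := QuotientGroup.mk'_surjective N y
  have hz : (z ^ (r ^ k)) ^ Nat.card N = 1 := by
    have hmem : z ^ (r ^ k) ∈ N := by
      rw [← QuotientGroup.eq_one_iff]
      change QuotientGroup.mk' N (z ^ (r ^ k)) = 1
      rw [map_pow, ← hy]; exact pow_orderOf_eq_one _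
    exact orderOf_dvd_iff_pow_eq_one.mp (orderOf_dvd_card_of_mem hmem)
  have hcop : Nat.Coprime (Nat.card N) (orderOf (QuotientGroup.mk' N z)) := by
    rw [hy]; exact ((hr.coprime_iff_not_dvd.mpr hN).symm).pow_right k
  obtain ⟨m, hm⟩ := exists_pow_eq_self_of_coprime hcop
  refine ⟨z ^ (Nat.card N * m), by rw [map_pow, pow_mul, hm], Nat.dvd_antisymm ?_ ?_⟩
  · refine orderOf_dvd_of_pow_eq_one ?_
    rw [← pow_mul, show Nat.card N * m * r ^ k = r ^ k * Nat.card N * m by ring, pow_mul, pow_mul, hz,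
      one_pow]
  · conv_lhs => rw [← hy, ← hm, ← pow_mul, ← map_pow]
    exact orderOf_map_dvd _ _

/-- If conjugation by `g` normalises the image of a cyclic `r`-group modulo a normal subgroup of
order prime to `r`, some `n * g` normalises the cyclic group itself. -/
theorem exists_normalizing_lift (N : Subgroup G) [N.Normal] {r k : ℕ} (hr : r.Prime)
    (hN : ¬ r ∣ Nat.card N) (x g : G) (hx : orderOf x = r ^ k)
    (hg : QuotientGroup.mk' N (g * x * g⁻¹) ∈ Subgroup.zpowers (QuotientGroup.mk' N x)) :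
    ∃ n ∈ N, n * g ∈ Subgroup.normalizer ((Subgroup.zpowers x : Subgroup G) : Set G) := by
  haveI := Fact.mk hr
  set M := Subgroup.zpowers x ⊔ N with hM
  have hgx : g * x * g⁻¹ ∈ M := by
    rw [← MonoidHom.map_zpowers] at hg
    have : g * x * g⁻¹ ∈ ((Subgroup.zpowers x).map (QuotientGroup.mk' N)).comap (QuotientGroup.mk' N) := hg
    rwa [Subgroup.comap_map_eq, QuotientGroup.ker_mk'] at this
  have hxM : x ∈ M := Subgroup.mem_sup_left (Subgroup.mem_zpowers x)
  -- both cyclic groups are Sylow subgroups of `M`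
  have hidx : ∀ w : M, orderOf w = r ^ k → ¬ r ∣ (Subgroup.zpowers w).index := by
    intro w hw hd
    have hcard : Nat.card M ∣ r ^ k * Nat.card N := by
      rw [hM, Subgroup.card_eq_card_quotient_mul_card_subgroup (N.subgroupOf M),
        Nat.card_congr (Subgroup.subgroupOfEquivOfLe (le_sup_right : N ≤ M)).toEquiv]
      refine mul_dvd_mul_right ?_ _
      have hsurj : Function.Surjective ((QuotientGroup.mk' (N.subgroupOf M)).comp
          (Subgroup.inclusion (le_sup_left : Subgroup.zpowers x ≤ M))) := by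
        intro y
        obtain ⟨⟨z, hz⟩, rfl⟩ := QuotientGroup.mk'_surjective _ y
        have hz' : z ∈ ((Subgroup.zpowers x ⊔ N : Subgroup G) : Set G) := hz
        rw [Subgroup.mul_normal] at hz'
        obtain ⟨a, ha, b, hb, rfl⟩ := Set.mem_mul.mp hz'
        refine ⟨⟨a, ha⟩, ?_⟩
        simp only [MonoidHom.coe_comp, Function.comp_apply, QuotientGroup.mk'_apply]
        rw [QuotientGroup.eq, Subgroup.mem_subgroupOf]
        simpa using hb
      rw [← hx, ← Nat.card_zpowers]
      exact Subgroup.card_dvd_of_surjective _ hsurj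
    rw [← (Subgroup.zpowers w).card_mul_index, Nat.card_zpowers, hw] at hcard
    exact hN (hd.trans (Nat.dvd_of_mul_dvd_mul_left (pow_pos hr.pos k) hcard))
  have ho1 : orderOf (⟨x, hxM⟩ : M) = r ^ k := by rw [← Subgroup.orderOf_coe]; exact hx
  have ho2 : orderOf (⟨g * x * g⁻¹, hgx⟩ : M) = r ^ k := by
    rw [← Subgroup.orderOf_coe]
    change orderOf (g * x * g⁻¹) = r ^ k
    rw [show g * x * g⁻¹ = MulAut.conj g x from rfl, MulEquiv.orderOf_eq, hx]
  let R : Sylow r M := IsPGroup.toSylow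
    (IsPGroup.of_card (n := k) (by rw [Nat.card_zpowers, ho1])) (hidx _ ho1)
  let R' : Sylow r M := IsPGroup.toSylow
    (IsPGroup.of_card (n := k) (by rw [Nat.card_zpowers, ho2])) (hidx _ ho2)
  obtain ⟨m, hm⟩ := MulAction.exists_smul_eq M R' R
  have hmx : (m : G) * (g * x * g⁻¹) * (m : G)⁻¹ ∈ Subgroup.zpowers x := by
    have h1 : m * ⟨g * x * g⁻¹, hgx⟩ * m⁻¹ ∈ (R : Subgroup M) := by
      rw [← hm, Sylow.coe_subgroup_smul]
      exact Subgroup.smul_mem_pointwise_smul _ (MulAut.conj m) _ (Subgroup.mem_zpowers _)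
    obtain ⟨i, hi⟩ := Subgroup.mem_zpowers_iff.mp h1
    exact Subgroup.mem_zpowers_iff.mpr ⟨i, congrArg Subtype.val hi⟩
  have hm' : (m : G) ∈ ((Subgroup.zpowers x ⊔ N : Subgroup G) : Set G) := m.2
  rw [Subgroup.mul_normal] at hm'
  obtain ⟨a, ha, n, hn, han⟩ := Set.mem_mul.mp hm'
  refine ⟨n, hn, mem_normalizer_of_forall fun z hz => ?_⟩
  obtain ⟨i, rfl⟩ := Subgroup.mem_zpowers_iff.mp hz
  rw [← conj_zpow]
  refine Subgroup.zpow_mem _ ?_ i
  have := Subgroup.mul_mem _ (Subgroup.mul_mem _ (Subgroup.inv_mem _ ha) hmx) ha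
  rw [← han] at this
  rwa [show a⁻¹ * (a * n * (g * x * g⁻¹) * (a * n)⁻¹) * a = n * g * x * (n * g)⁻¹ by group] at this

/-- If no non-trivial element of odd order is inverted by an element, the Sylow `2`-subgroup is
normal. -/
theorem sylow_two_normal_of_no_real
    (h : ∀ x g : G, Odd (orderOf x) → g * x * g⁻¹ = x⁻¹ → x = 1) (P : Sylow 2 G) :
    (P : Subgroup G).Normal := by
  haveI : Fact (Nat.Prime 2) := ⟨Nat.prime_two⟩
  set O := Cfsg.pCore 2 G with hO
  have hOp : IsPGroup 2 O := Cfsg.Agent.Lib.Hall.isPGroup_pCore 2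
  have hOP : O ≤ (P : Subgroup G) := Cfsg.Agent.Lib.Hall.pCore_le_sylow P
  have hOn : O.Normal := by rw [hO]; infer_instance
  suffices hPO : (P : Subgroup G) ≤ O by rw [le_antisymm hPO hOP]; exact hOn
  let π := QuotientGroup.mk' O
  by_contra hPO
  -- an involution of the quotient
  have heven : 2 ∣ Nat.card (G ⧸ O) := by
    obtain ⟨v, hvP, hvO⟩ := SetLike.not_le_iff_exists.mp hPO
    obtain ⟨b, hb⟩ := IsPGroup.iff_orderOf.mp (P.2.map π) ⟨π v, Subgroup.mem_map_of_mem _ hvP⟩
    rw [Subgroup.orderOf_mk] at hb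
    rcases b with _ | b
    · exact absurd ((QuotientGroup.eq_one_iff v).mp (orderOf_eq_one_iff.mp (hb.trans (pow_zero 2)))) hvO
    · exact (dvd_pow_self 2 b.succ_ne_zero).trans (hb ▸ orderOf_dvd_natCard _)
  obtain ⟨t, ht⟩ := exists_prime_orderOf_dvd_card' 2 heven
  -- Baer-Suzuki gives a product of two conjugates which is not a 2-element
  obtain ⟨c, hc⟩ : ∃ c : G ⧸ O, ¬ IsPGroup 2
      ↥(Subgroup.zpowers t ⊔ (Subgroup.zpowers t).map (MulAut.conj c).toMonoidHom) := by
    by_contra! hall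
    obtain ⟨N, hN, hNp, htN⟩ := Cfsg.Agent.Lib.Involution.baerSuzuki (p := 2) (Subgroup.zpowers t) hall
    haveI := hN
    have hker : IsPGroup 2 π.ker := by rw [QuotientGroup.ker_mk']; exact hOp
    have hle : N.comap π ≤ O := Cfsg.Agent.Lib.Hall.le_pCore (hNp.comap_of_ker_isPGroup π hker)
    obtain ⟨t', rfl⟩ := QuotientGroup.mk'_surjective O t
    have : t' ∈ O := hle (htN (Subgroup.mem_zpowers _))
    rw [show QuotientGroup.mk' O t' = 1 from (QuotientGroup.eq_one_iff t').mpr this, orderOf_one] at ht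
    omega
  set s := c * t * c⁻¹ with hs
  have hs2 : orderOf s = 2 := by
    rw [hs, show c * t * c⁻¹ = MulAut.conj c t from rfl, MulEquiv.orderOf_eq, ht]
  have hmap : Subgroup.zpowers t ⊔ (Subgroup.zpowers t).map (MulAut.conj c).toMonoidHom =
      Subgroup.closure ({t, s} : Set (G ⧸ O)) := by
    rw [MonoidHom.map_zpowers, show ({t, s} : Set (G ⧸ O)) = {t} ∪ {s} from Set.insert_eq t {s},
      Subgroup.closure_union, Subgroup.zpowers_eq_closure, Subgroup.zpowers_eq_closure]
    rfl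
  rw [hmap] at hc
  obtain ⟨r, hr, hr2, hrd⟩ : ∃ r, r.Prime ∧ r ≠ 2 ∧ r ∣ orderOf (t * s) := by
    by_contra! hall
    exact hc (Cfsg.Agent.Lib.Involution.isPGroup_two_closure_pair ht hs2
      (Nat.eq_prime_pow_of_unique_prime_dvd (orderOf_pos (t * s)).ne'
        (fun {q} hq hd => by_contra fun hne => hall q hq hne hd)))
  set w := (t * s) ^ (orderOf (t * s) / r) with hw
  have hwo : orderOf w = r ^ 1 := by
    rw [pow_one, hw, orderOf_pow_orderOf_div (orderOf_pos _).ne' hrd]
  have htt : t * t = 1 := Cfsg.Agent.Lib.Involution.mul_self ht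
  have hinv : t * w * t⁻¹ = w⁻¹ := by
    rw [hw, ← conj_pow, ← inv_pow]
    congr 1
    rw [mul_inv_rev, Cfsg.Agent.Lib.Involution.inv_self ht, Cfsg.Agent.Lib.Involution.inv_self hs2,
      ← mul_assoc, htt, one_mul]
  have hrO : ¬ r ∣ Nat.card O := by
    obtain ⟨j, hj⟩ := IsPGroup.iff_card.mp hOp
    rw [hj]
    exact fun hd => hr2 ((Nat.prime_dvd_prime_iff_eq hr Nat.prime_two).mp (hr.dvd_of_dvd_pow hd))
  obtain ⟨x, hxw, hxo⟩ := exists_lift_same_order O hr hrO w hwo
  obtain ⟨t', ht'⟩ := QuotientGroup.mk'_surjective O t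
  obtain ⟨n, hn, hnorm⟩ := exists_normalizing_lift O hr hrO x t' hxo (by
    rw [map_mul, map_mul, map_inv, hxw, ht', hinv]
    exact Subgroup.inv_mem _ (Subgroup.mem_zpowers w))
  obtain ⟨i, hi⟩ := Subgroup.mem_zpowers_iff.mp
    ((Subgroup.mem_normalizer_iff.mp hnorm x).mp (Subgroup.mem_zpowers x))
  have hwi : w ^ i = w⁻¹ := by
    have := congrArg π hi
    rw [map_zpow, map_mul, map_mul, map_inv, map_mul,
      show π n = 1 from (QuotientGroup.eq_one_iff n).mpr hn, one_mul] at this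
    change (π x) ^ i = _ at this
    rw [show π x = w from hxw, show π t' = t from ht', hinv] at this
    exact this
  have hxi : x ^ i = x⁻¹ := by
    have h1 : w ^ (i + 1) = 1 := by rw [zpow_add_one, hwi, inv_mul_cancel]
    rw [← orderOf_dvd_iff_zpow_eq_one, hwo, ← hxo, orderOf_dvd_iff_zpow_eq_one, zpow_add_one] at h1
    exact eq_inv_of_mul_eq_one_left h1
  rw [hxi] at hi
  have hx1 := h x _ (by rw [hxo, pow_one]; exact hr.odd_of_ne_two hr2) hi.symm
  rw [hx1, orderOf_one, pow_one] at hxo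
  exact hr.ne_one hxo.symm

end Cfsg.Agent.Lib.GS
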