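import Cfsg.Agent.Lib.GS.StableQuot

/-! `SL(2, p)` has no nontrivial normal `p`-subgroup. -/

set_option autoImplicit false

namespace Cfsg.Agent.Lib.GS.SLTwoCore

open Subgroup Cfsg.Agent.Lib.PStab
open scoped MatrixGroups

variable {p : ℕ} [Fact p.Prime]

/-- `SL(2, p)` has no nontrivial normal `p`-subgroup. -/
theorem eq_bot_of_normal_pgroup {J : Subgroup SL(2, ZMod p)} (hJn : J.Normal) (hJ : IsPGroup p J) : J = ⊥ := by
  have key : ∀ u : SL(2, ZMod p), u ^ p = 1 → ∀ s ∈ J, ((u * s : SL(2, ZMod p)) : Matrix (Fin 2) (Fin 2) (ZMod p)) 0 0 + ((u * s : SL(2, ZMod p)) : Matrix (Fin 2) (Fin 2) (ZMod p)) 1 1 = 2 := by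
    intro u hu s hs
    have h1 : (u * s) ^ p ∈ J := by
      have := hJn
      rw [← QuotientGroup.eq_one_iff, QuotientGroup.mk_pow, QuotientGroup.mk_mul, (QuotientGroup.eq_one_iff s).2 hs,
        mul_one, ← QuotientGroup.mk_pow, hu, QuotientGroup.mk_one]
    obtain ⟨k, hk⟩ := hJ ⟨_, h1⟩
    have h2 : (u * s) ^ p ^ (k + 1) = 1 := by
      rw [pow_succ', pow_mul]
      exact congrArg Subtype.val hk
    exact trace_eq_two h2
  rw [eq_bot_iff]
  intro s hs
  have ht := key 1 (one_pow p) s hs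
  have hx := key (ux 1) (ux_pow_p 1) s hs
  have hy := key (uy 1) (uy_pow_p 1) s hs
  have hd := det_eq s
  simp [coe_ux, coe_uy, mul_apply_two] at ht hx hy
  rw [Subgroup.mem_bot]
  have h10 : (s : Matrix (Fin 2) (Fin 2) (ZMod p)) 1 0 = 0 := by linear_combination hx - ht
  have h01 : (s : Matrix (Fin 2) (Fin 2) (ZMod p)) 0 1 = 0 := by linear_combination hy - ht
  have hsq : ((s : Matrix (Fin 2) (Fin 2) (ZMod p)) 0 0 - 1) ^ 2 = 0 := by
    rw [h10, h01] at hd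
    linear_combination (s : Matrix (Fin 2) (Fin 2) (ZMod p)) 0 0 * ht - hd
  have h00 : (s : Matrix (Fin 2) (Fin 2) (ZMod p)) 0 0 = 1 := sub_eq_zero.1 (pow_eq_zero_iff two_ne_zero |>.1 hsq)
  have h11 : (s : Matrix (Fin 2) (Fin 2) (ZMod p)) 1 1 = 1 := by linear_combination ht - h00
  refine sl_ext ?_ ?_ ?_ ?_ <;> simp [h00, h10, h01, h11]

end Cfsg.Agent.Lib.GS.SLTwoCore
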