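import Cfsg.Agent.Lib.GS.SmallThreeNormalizer
import Mathlib.Algebra.BigOperators.Group.Finset.Basic
import Mathlib.Data.Finset.Card

/-!
Counting pairs of involutions for the group of `SmallThree.Hyp`.
-/

set_option autoImplicit false

namespace Cfsg.Agent.Lib.GS.SmallThree

open Subgroup

universe u

variable {G : Type u} [Group G] [Finite G] {P : Sylow 3 G}

theorem sq_of_conj {t a : G} (ht : t * t = 1) (h : IsConj a t) : a * a = 1 := by
  obtain ⟨g, hg⟩ := isConj_iff.1 h
  have e : g * (a * a) * g⁻¹ = g * 1 * g⁻¹ := by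
    calc g * (a * a) * g⁻¹ = (g * a * g⁻¹) * (g * a * g⁻¹) := by group
      _ = g * 1 * g⁻¹ := by rw [hg, ht, mul_one, mul_inv_cancel]
  exact mul_left_cancel (mul_right_cancel e)

theorem ne_one_of_conj {t a : G} (ht : t ≠ 1) (h : IsConj a t) : a ≠ 1 := by
  rintro rfl
  exact ht (isConj_one_right.1 h)

/-- A factorization of a non-identity element of `C` into two conjugates of `t` starts outside
`C` and inside `N`. -/
theorem Hyp.fibre (h : Hyp P) {a b c : G} (hc : c ∈ centralizer (P : Set G)) (hc1 : c ≠ 1)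
    (ha : IsConj a h.t) (hb : IsConj b h.t) (hab : a * b = c) :
    a ∈ normalizer ((P : Subgroup G) : Set G) ∧ a ∉ centralizer (P : Set G) := by
  have ha2 := sq_of_conj h.t_sq ha
  have hb2 := sq_of_conj h.t_sq hb
  have hainv : a⁻¹ = a := inv_eq_of_mul_eq_one_right ha2
  have hbinv : b⁻¹ = b := inv_eq_of_mul_eq_one_right hb2
  constructor
  · refine h.mem_N_of_inter hc hc1 ?_
    have : a * c * a⁻¹ = c⁻¹ := by
      rw [← hab, mul_inv_rev, hbinv, hainv, ← mul_assoc, ha2, one_mul]
    rw [this]; exact inv_mem hc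
  · intro haC
    have hbC : b ∈ centralizer (P : Set G) := by
      rw [show b = a⁻¹ * c by rw [← hab, inv_mul_cancel_left]]
      exact mul_mem (inv_mem haC) hc
    apply hc1
    rw [← hab, h.eq_t haC (ne_one_of_conj h.t_ne ha) ha2,
      h.eq_t hbC (ne_one_of_conj h.t_ne hb) hb2, h.t_sq]

/-- Elements of `C` of order above two are products of two conjugates of `t` in exactly the
expected way. -/
theorem Hyp.fibre_iff (h : Hyp P) {a z : G} (hz : z ∈ centralizer (P : Set G)) (hz2 : z * z ≠ 1) :
    (IsConj a h.t ∧ IsConj (a⁻¹ * z) h.t) ↔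
      (a ∈ normalizer ((P : Subgroup G) : Set G) ∧ a ∉ centralizer (P : Set G)) := by
  have hz1 : z ≠ 1 := fun e => hz2 (by rw [e, mul_one])
  constructor
  · rintro ⟨ha, hb⟩
    exact h.fibre hz hz1 ha hb (mul_inv_cancel_left a z)
  · rintro ⟨haN, haC⟩
    have key : ∀ b : G, b ∈ normalizer ((P : Subgroup G) : Set G) →
        b ∉ centralizer (P : Set G) → IsConj b h.t := fun b h1 h2 =>
      h.conj_of_invol (h.outside h1 h2).1 (fun e => h2 (e ▸ one_mem _))
    refine ⟨key a haN haC, key _ (mul_mem (inv_mem haN) (C_le_N P hz)) fun hm => haC ?_⟩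
    have := mul_mem hz (inv_mem hm)
    simpa [mul_assoc] using this

theorem Hyp.centralizer_of_P (h : Hyp P) {y : G} (hy : y ∈ P) (hy1 : y ≠ 1) :
    centralizer ({y} : Set G) = centralizer (P : Set G) := by
  refine le_antisymm (fun g hg => ?_) fun g hg => mem_centralizer_singleton_iff.2
    (mem_centralizer_iff.1 hg y hy).symm
  have hgy : g * y * g⁻¹ = y := mul_inv_eq_iff_eq_mul.2 (mem_centralizer_singleton_iff.1 hg)
  have hgN := h.mem_N_of_inter (h.P_le_C hy) hy1 (by rw [hgy]; exact h.P_le_C hy)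
  by_contra hgC
  have e := (h.outside hgN hgC).2 y hy
  rw [hgy] at e
  exact h.sq_ne_one hy hy1 (by nth_rewrite 2 [e]; exact mul_inv_cancel y)

/-- A product of two conjugates of `t` is conjugate into `C`. -/
theorem Hyp.cover (h : Hyp P) {a b : G} (ha : IsConj a h.t) (hb : IsConj b h.t) (hne : a * b ≠ 1) :
    ∃ g : G, g⁻¹ * (a * b) * g ∈ centralizer (P : Set G) := by
  haveI : Fact (Nat.Prime 2) := ⟨Nat.prime_two⟩
  have ha2 := sq_of_conj h.t_sq ha
  have hb2 := sq_of_conj h.t_sq hb
  have hainv : a⁻¹ = a := inv_eq_of_mul_eq_one_right ha2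
  have hbinv : b⁻¹ = b := inv_eq_of_mul_eq_one_right hb2
  have hH : closure ({a, b} : Set G) ≠ ⊤ := by
    intro hH
    have hnorm : (zpowers (a * b)).Normal := by
      rw [← normalizer_eq_top_iff, eq_top_iff, ← hH, closure_le]
      have hflip : ∀ g : G, g * (a * b) * g⁻¹ = (a * b)⁻¹ →
          g ∈ normalizer (zpowers (a * b) : Set G) := by
        intro g hg
        refine Subgroup.mem_normalizer_iff.2 fun z => ⟨fun hz => ?_, fun hz => ?_⟩
        · obtain ⟨i, rfl⟩ := mem_zpowers_iff.1 hz
          rw [← conj_zpow, hg]; exact zpow_mem (inv_mem (mem_zpowers _)) _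
        · obtain ⟨i, hi⟩ := mem_zpowers_iff.1 hz
          have : z = g⁻¹ * (a * b) ^ i * g := by rw [hi]; group
          have e : g⁻¹ * (a * b) * g = (a * b)⁻¹ := by
            have := congrArg Inv.inv hg
            simp only [inv_inv] at this
            calc g⁻¹ * (a * b) * g = g⁻¹ * (g * (a * b) * g⁻¹)⁻¹ * g := by rw [this]
              _ = (a * b)⁻¹ := by group
          rw [this]
          have := conj_zpow (i := i) (a := g⁻¹) (b := a * b)
          rw [inv_inv, e] at this
          rw [← this]; exact zpow_mem (inv_mem (mem_zpowers _)) _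
      rintro g (rfl | rfl)
      · exact hflip _ (by rw [mul_inv_rev, hbinv, hainv, ← mul_assoc, ha2, one_mul])
      · exact hflip _ (by rw [mul_inv_rev, hbinv, hainv]; rw [mul_assoc g, mul_assoc a, hb2, mul_one])
    have hs := h.simp
    rcases IsSimpleGroup.eq_bot_or_eq_top_of_normal _ hnorm with hb' | ht'
    · exact hne (Subgroup.mem_bot.1 (hb' ▸ mem_zpowers _))
    · refine h.not_comm fun u v => ?_
      obtain ⟨i, rfl⟩ := mem_zpowers_iff.1 (ht' ▸ Subgroup.mem_top u)
      obtain ⟨j, rfl⟩ := mem_zpowers_iff.1 (ht' ▸ Subgroup.mem_top v)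
      exact (Commute.zpow_zpow_self _ i j).eq
  have ho2 : orderOf a = 2 := orderOf_eq_prime (by rw [pow_two, ha2]) (ne_one_of_conj h.t_ne ha)
  have haH : a ∈ closure ({a, b} : Set G) := subset_closure (by simp)
  have hxH : a * b ∈ closure ({a, b} : Set G) := mul_mem haH (subset_closure (by simp))
  have hd : orderOf (a * b) ∣ 4 * Nat.card P :=
    (Subgroup.orderOf_dvd_natCard _ hxH).trans
      (h.even _ hH (ho2 ▸ Subgroup.orderOf_dvd_natCard _ haH))
  set x := a * b with hx
  by_cases hx4 : x ^ 4 = 1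
  · -- a 2-element is an involution
    have hz : IsPGroup 2 (zpowers x) := by
      obtain ⟨j, -, hj⟩ := (Nat.dvd_prime_pow (m := 2) Nat.prime_two).1
        (orderOf_dvd_of_pow_eq_one (show x ^ (2 ^ 2) = 1 by simpa using hx4))
      exact IsPGroup.of_card (n := j) (by rw [Nat.card_zpowers, hj])
    obtain ⟨S, hS⟩ := hz.exists_le_sylow
    have hxx : x * x = 1 := by
      by_contra hxx
      -- then `x` generates `S`, and `x * x` is an involution conjugate to `t`
      have h2 : x * x * (x * x) = 1 := by rw [← hx4]; simp [pow_succ, mul_assoc]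
      obtain ⟨g, hg⟩ := isConj_iff.1 (h.conj_of_invol h2 hxx)
      have hcomm : (g * x * g⁻¹) * h.t = h.t * (g * x * g⁻¹) := by rw [← hg]; group
      have hyN := h.mem_N_of_comm_t hcomm
      by_cases hyC : g * x * g⁻¹ ∈ centralizer (P : Set G)
      · rcases h.mem_C_cases hyC with hy | hy
        · have := h.pow_card_eq hy
          rw [conj_pow, conj_eq_one_iff] at this
          obtain ⟨j, hj⟩ := odd_P P
          have h4 : Nat.Coprime (Nat.card P) 4 := by
            rw [show (4 : ℕ) = 2 ^ 2 by norm_num]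
            exact Nat.Coprime.pow_right _ (Nat.coprime_two_right.2 (odd_P P))
          have : x = 1 := by
            have e := Nat.eq_one_of_dvd_coprimes h4 (orderOf_dvd_of_pow_eq_one this)
              (orderOf_dvd_of_pow_eq_one hx4)
            exact orderOf_eq_one_iff.1 e
          exact hne this
        · have e1 : (h.t * (g * x * g⁻¹)) ^ Nat.card P = 1 := h.pow_card_eq hy
          have e2 : (h.t * (g * x * g⁻¹)) ^ 4 = 1 := by
            have hc' : Commute h.t (g * x * g⁻¹) := hcomm.symm
            rw [hc'.mul_pow, conj_pow, hx4, mul_one, mul_inv_cancel, mul_one,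
              show (4 : ℕ) = 2 * 2 by norm_num, pow_mul, pow_two h.t, h.t_sq, one_pow]
          have h4 : Nat.Coprime (Nat.card P) 4 := by
            rw [show (4 : ℕ) = 2 ^ 2 by norm_num]
            exact Nat.Coprime.pow_right _ (Nat.coprime_two_right.2 (odd_P P))
          have e := orderOf_eq_one_iff.1 (Nat.eq_one_of_dvd_coprimes h4
            (orderOf_dvd_of_pow_eq_one e1) (orderOf_dvd_of_pow_eq_one e2))
          have : g * x * g⁻¹ = h.t := by
            rw [← h.t_inv]; exact eq_inv_of_mul_eq_one_right e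
          apply hxx
          have e' : g * (x * x) * g⁻¹ = g * 1 * g⁻¹ := by
            calc g * (x * x) * g⁻¹ = g * x * g⁻¹ * (g * x * g⁻¹) := by group
              _ = g * 1 * g⁻¹ := by rw [this, h.t_sq, mul_one, mul_inv_cancel]
          exact mul_left_cancel (mul_right_cancel e')
      · apply hxx
        have := (h.outside hyN hyC).1
        have e' : g * (x * x) * g⁻¹ = g * 1 * g⁻¹ := by
          calc g * (x * x) * g⁻¹ = g * x * g⁻¹ * (g * x * g⁻¹) := by group
            _ = g * 1 * g⁻¹ := by rw [this, mul_one, mul_inv_cancel]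
        exact mul_left_cancel (mul_right_cancel e')
    obtain ⟨g, hg⟩ := isConj_iff.1 (h.conj_of_invol hxx hne)
    exact ⟨g⁻¹, by rw [inv_inv, hg]; exact h.t_mem⟩
  · -- a power is a non-identity 3-element
    obtain ⟨k, hk⟩ := card_P P
    have hy : (x ^ 4) ^ 3 ^ k = 1 := by
      rw [← pow_mul, ← hk]; exact orderOf_dvd_iff_pow_eq_one.1 hd
    have hz : IsPGroup 3 (zpowers (x ^ 4)) := by
      obtain ⟨j, -, hj⟩ := (Nat.dvd_prime_pow Nat.prime_three).1 (orderOf_dvd_of_pow_eq_one hy)
      exact IsPGroup.of_card (n := j) (by rw [Nat.card_zpowers, hj])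
    obtain ⟨Q, hQ⟩ := hz.exists_le_sylow
    obtain ⟨g, hg⟩ := MulAction.exists_smul_eq G P Q
    have hmem : x ^ 4 ∈ ((g • P : Sylow 3 G) : Subgroup G) := hg ▸ hQ (mem_zpowers _)
    rw [Sylow.coe_subgroup_smul, Subgroup.mem_smul_pointwise_iff_exists] at hmem
    obtain ⟨p, hp, e⟩ := hmem
    have e' : g * p * g⁻¹ = x ^ 4 := by simpa [MulAut.smul_def, MulAut.conj_apply] using e
    have hp1 : p ≠ 1 := fun e1 => hx4 (by rw [← e', e1, mul_one, mul_inv_cancel])
    refine ⟨g, ?_⟩
    rw [← h.centralizer_of_P hp hp1, mem_centralizer_singleton_iff]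
    have hc : Commute x (x ^ 4) := (Commute.refl x).pow_right 4
    have hp' : p = g⁻¹ * x ^ 4 * g := by rw [← e']; group
    rw [hp']
    calc g⁻¹ * x * g * (g⁻¹ * x ^ 4 * g) = g⁻¹ * (x * x ^ 4) * g := by group
      _ = g⁻¹ * (x ^ 4 * x) * g := by rw [hc.eq]
      _ = g⁻¹ * x ^ 4 * g * (g⁻¹ * x * g) := by group

/-- The bound on the index of `N`. -/
theorem Hyp.index_le (h : Hyp P) :
    (normalizer ((P : Subgroup G) : Set G)).index + 2 * Nat.card P ≤
      4 * Nat.card P ^ 2 + 1 := by
  classical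
  haveI := Fintype.ofFinite G
  set N := normalizer ((P : Subgroup G) : Set G) with hN
  set C := centralizer (P : Set G) with hC
  set I := Finset.univ.filter fun a : G => IsConj a h.t with hI
  have hIcard : I.card = N.index := by
    have h1 : I.card * Nat.card (centralizer ({h.t} : Set G)) = Nat.card G := by
      rw [Subgroup.nat_card_centralizer_nat_card_stabilizer]
      have h2 : Nat.card (MulAction.orbit (ConjAct G) h.t) = I.card := by
        rw [Nat.card_eq_fintype_card, ← Set.toFinset_card]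
        congr 1
        ext x
        simp [hI, ConjAct.mem_orbit_conjAct]
      rw [← h2, Nat.card_congr (MulAction.orbitEquivQuotientStabilizer (ConjAct G) h.t),
        ← Subgroup.card_eq_card_quotient_mul_card_subgroup]
      exact Nat.card_congr ConjAct.ofConjAct.toEquiv
    rw [h.centralizer_t, ← N.index_mul_card] at h1
    exact Nat.eq_of_mul_eq_mul_right Nat.card_pos h1
  set n := N.index with hn
  set q := Nat.card P with hq
  have hmem : ∀ a, a ∈ I ↔ IsConj a h.t := fun a => by simp [hI]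
  -- a base point for every conjugate of `t`
  choose! base hbase using fun a (ha : a ∈ I) => isConj_iff.1 ((hmem a).1 ha).symm
  set Cf := (Finset.univ.filter fun c : G => c ∈ C).erase 1 with hCf
  have hCfc : Cf.card = 2 * q - 1 := by
    rw [hCf, Finset.card_erase_of_mem (by simp), ← Fintype.card_subtype,
      ← Nat.card_eq_fintype_card]
    exact congrArg (· - 1) h.cardC
  set T := (I ×ˢ Cf).image fun z => base z.1 * z.2 * (base z.1)⁻¹ with hT
  have hTc : T.card ≤ n * (2 * q - 1) := by
    refine Finset.card_image_le.trans ?_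
    rw [Finset.card_product, hIcard, hCfc]
  have hmapsTo : ∀ z ∈ I ×ˢ I, z.1 * z.2 ∈ insert 1 T := by
    intro z hz
    obtain ⟨ha, hb⟩ := Finset.mem_product.1 hz
    by_cases hne : z.1 * z.2 = 1
    · exact Finset.mem_insert.2 (Or.inl hne)
    obtain ⟨g, hg⟩ := h.cover ((hmem _).1 ha) ((hmem _).1 hb) hne
    refine Finset.mem_insert_of_mem ?_
    set a := g * h.t * g⁻¹ with ha'
    have haI : a ∈ I := (hmem a).2 (isConj_iff.2 ⟨g⁻¹, by rw [ha']; group⟩)
    set r := (base a)⁻¹ * g with hr
    have hrN : r ∈ N := by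
      refine h.mem_N_of_comm_t ?_
      have e : base a * h.t * (base a)⁻¹ = g * h.t * g⁻¹ := hbase a haI
      calc r * h.t = (base a)⁻¹ * (g * h.t * g⁻¹) * g := by rw [hr]; group
        _ = (base a)⁻¹ * (base a * h.t * (base a)⁻¹) * g := by rw [e]
        _ = h.t * r := by rw [hr]; group
    refine Finset.mem_image.2 ⟨(a, r * (g⁻¹ * (z.1 * z.2) * g) * r⁻¹),
      Finset.mem_product.2 ⟨haI, ?_⟩, by simp only [hr]; group⟩
    refine Finset.mem_erase.2 ⟨fun e => hne ?_, by simpa using h.N_conj_C hrN hg⟩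
    have := congrArg (fun w => g * (r⁻¹ * w * r) * g⁻¹) e
    simpa [mul_assoc] using this
  have hfib : ∀ x ∈ insert 1 T, x ≠ 1 →
      ((I ×ˢ I).filter fun z => z.1 * z.2 = x).card ≤ 2 * q := by
    intro x hx hx1
    obtain ⟨⟨a, c⟩, hac, rfl⟩ := Finset.mem_image.1 ((Finset.mem_insert.1 hx).resolve_left hx1)
    obtain ⟨-, hc⟩ := Finset.mem_product.1 hac
    obtain ⟨hc1, hcC⟩ := Finset.mem_erase.1 hc
    replace hcC : c ∈ C := by simpa using hcC
    set g := base a with hg
    have hD : (Finset.univ.filter fun y : G => y ∈ N ∧ y ∉ C).card = 2 * q := by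
      rw [show (Finset.univ.filter fun y : G => y ∈ N ∧ y ∉ C) =
        (Finset.univ.filter fun y : G => y ∈ N) \ (Finset.univ.filter fun y : G => y ∈ C) by
          ext; simp, Finset.card_sdiff_of_subset (fun y hy => by
          simp only [Finset.mem_filter] at hy ⊢; exact ⟨hy.1, C_le_N P hy.2⟩),
        ← Fintype.card_subtype, ← Fintype.card_subtype, ← Nat.card_eq_fintype_card,
        ← Nat.card_eq_fintype_card, h.cardN, h.cardC]
      omega
    rw [← hD]
    refine Finset.card_le_card_of_injOn (fun z => g⁻¹ * z.1 * g) (fun z hz => ?_) ?_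
    · obtain ⟨hz, he⟩ := Finset.mem_filter.1 hz
      obtain ⟨h1, h2⟩ := Finset.mem_product.1 hz
      have := h.fibre hcC hc1 (a := g⁻¹ * z.1 * g) (b := g⁻¹ * z.2 * g)
        ((isConj_iff.2 ⟨g, by group⟩ : IsConj (g⁻¹ * z.1 * g) z.1).trans ((hmem _).1 h1))
        ((isConj_iff.2 ⟨g, by group⟩ : IsConj (g⁻¹ * z.2 * g) z.2).trans ((hmem _).1 h2))
        (by rw [show g⁻¹ * z.1 * g * (g⁻¹ * z.2 * g) = g⁻¹ * (z.1 * z.2) * g by group, he]; group)
      simpa [hN, hC] using this
    · intro z hz w hw e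
      obtain ⟨-, hez⟩ := Finset.mem_filter.1 (Finset.mem_coe.1 hz)
      obtain ⟨-, hew⟩ := Finset.mem_filter.1 (Finset.mem_coe.1 hw)
      have e1 : z.1 = w.1 := mul_left_cancel (mul_right_cancel e)
      refine Prod.ext e1 ?_
      rw [← hew, e1] at hez
      exact mul_left_cancel hez
  have hone : ((I ×ˢ I).filter fun z => z.1 * z.2 = 1).card ≤ n := by
    rw [← hIcard]
    refine Finset.card_le_card_of_injOn Prod.fst (fun z hz => ?_) ?_
    · exact (Finset.mem_product.1 (Finset.mem_filter.1 hz).1).1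
    · intro z hz w hw e
      obtain ⟨-, hez⟩ := Finset.mem_filter.1 (Finset.mem_coe.1 hz)
      obtain ⟨-, hew⟩ := Finset.mem_filter.1 (Finset.mem_coe.1 hw)
      refine Prod.ext e ?_
      rw [← hew, e] at hez
      exact mul_left_cancel hez
  have hsum : n * n ≤ n + n * (2 * q - 1) * (2 * q) := by
    rw [show n * n = (I ×ˢ I).card by rw [Finset.card_product, hIcard],
      Finset.card_eq_sum_card_fiberwise hmapsTo,
      ← Finset.add_sum_erase _ _ (Finset.mem_insert_self 1 T)]
    refine add_le_add hone ?_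
    calc _ ≤ ((insert 1 T).erase 1).card * (2 * q) :=
          Finset.sum_le_card_nsmul _ _ _ fun x hx =>
            hfib x (Finset.mem_erase.1 hx).2 (Finset.mem_erase.1 hx).1
      _ ≤ n * (2 * q - 1) * (2 * q) := Nat.mul_le_mul_right _
          (((Finset.card_le_card (Finset.erase_insert_subset 1 T))).trans hTc)
  have hn0 : 0 < n := Nat.pos_of_ne_zero N.index_ne_zero_of_finite
  have : n ≤ 1 + (2 * q - 1) * (2 * q) := by
    refine Nat.le_of_mul_le_mul_left ?_ hn0
    rw [mul_add, mul_one, ← mul_assoc]; exact hsum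
  obtain ⟨j, hj⟩ : ∃ j, 2 * q = j + 1 := ⟨2 * q - 1, by have : 0 < q := Nat.card_pos; omega⟩
  rw [hj, Nat.add_sub_cancel] at this
  nlinarith

end Cfsg.Agent.Lib.GS.SmallThree
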