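import Cfsg.Prelude.Def_OddOrderLocal
import Mathlib.GroupTheory.Transfer
import Mathlib.GroupTheory.Sylow
import Mathlib.GroupTheory.Subgroup.Simple

/-!
Local structure of a hypothetical simple group with an abelian Sylow 3-subgroup `P` with
`|N(P)| = 4|P|`, `|C(P)| = 2|P|`, `C(P)` TI and all proper subgroups of even order dividing `4|P|`.
-/

set_option autoImplicit false

namespace Cfsg.Agent.Lib.GS.SmallThree

open Subgroup

universe u

variable {G : Type u} [Group G] [Finite G]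

/-- The hypothesis bundle. -/
structure Hyp (P : Sylow 3 G) : Prop where
  ab : IsMulCommutative P
  cardN : Nat.card (normalizer ((P : Subgroup G) : Set G)) = 4 * Nat.card P
  cardC : Nat.card (centralizer (P : Set G)) = 2 * Nat.card P
  ti : Cfsg.IsTISubset (centralizer (P : Set G) : Set G)
  even : ∀ H : Subgroup G, H ≠ ⊤ → 2 ∣ Nat.card H → Nat.card H ∣ 4 * Nat.card P
  simp : IsSimpleGroup G

variable {P : Sylow 3 G}

instance : Fact (Nat.Prime 3) := ⟨Nat.prime_three⟩

theorem card_P (P : Sylow 3 G) : ∃ a : ℕ, Nat.card P = 3 ^ a := IsPGroup.iff_card.1 P.2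

theorem odd_P (P : Sylow 3 G) : Odd (Nat.card P) := by
  obtain ⟨a, ha⟩ := card_P P
  rw [ha]; exact Odd.pow (by decide)

theorem not_two_dvd_P (P : Sylow 3 G) : ¬ 2 ∣ Nat.card P :=
  Nat.not_even_iff_odd.2 (odd_P P) ∘ even_iff_two_dvd.2

theorem Hyp.card_ne_one (h : Hyp P) : Nat.card P ≠ 1 := by
  intro e
  have hbot : (P : Subgroup G) = ⊥ := Subgroup.eq_bot_of_card_eq _ e
  have hC : centralizer (P : Set G) = ⊤ := by
    refine eq_top_iff.2 fun g _ => mem_centralizer_iff.2 fun x hx => ?_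
    have hx' : x ∈ (P : Subgroup G) := hx
    rw [hbot, Subgroup.mem_bot] at hx'
    simp [hx']
  have hN : normalizer ((P : Subgroup G) : Set G) = ⊤ :=
    top_le_iff.1 (hC ▸ Subgroup.centralizer_le_normalizer _)
  have h1 := h.cardC
  have h2 := h.cardN
  rw [hC] at h1
  rw [hN] at h2
  omega

theorem Hyp.P_comm (h : Hyp P) {a b : G} (ha : a ∈ P) (hb : b ∈ P) : a * b = b * a :=
  congrArg Subtype.val (h.ab.1.1 ⟨a, ha⟩ ⟨b, hb⟩)

theorem Hyp.P_le_C (h : Hyp P) : (P : Subgroup G) ≤ centralizer (P : Set G) :=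
  fun _ ha => mem_centralizer_iff.2 fun _ hb => h.P_comm hb ha

theorem C_le_N (P : Sylow 3 G) :
    centralizer (P : Set G) ≤ normalizer ((P : Subgroup G) : Set G) :=
  Subgroup.centralizer_le_normalizer _

theorem Hyp.N_ne_top (h : Hyp P) : normalizer ((P : Subgroup G) : Set G) ≠ ⊤ := by
  intro e
  haveI : (P : Subgroup G).Normal := normalizer_eq_top_iff.1 e
  have hs := h.simp
  rcases IsSimpleGroup.eq_bot_or_eq_top_of_normal (P : Subgroup G) inferInstance with hb | ht
  · exact h.card_ne_one (by rw [show Nat.card P = Nat.card (P : Subgroup G) from rfl, hb,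
      Subgroup.card_bot])
  · have h1 := h.cardN
    rw [e, show Nat.card P = Nat.card (P : Subgroup G) from rfl, ht] at h1
    have : 0 < Nat.card (⊤ : Subgroup G) := Nat.card_pos
    omega

theorem Hyp.not_comm (h : Hyp P) : ¬ ∀ a b : G, a * b = b * a := by
  intro hc
  refine h.N_ne_top (eq_top_iff.2 fun g _ => C_le_N P (mem_centralizer_iff.2 fun x _ => hc x g))

theorem Hyp.centralizer_ne_top (h : Hyp P) {t : G} (ht : t ≠ 1) :
    centralizer ({t} : Set G) ≠ ⊤ := by
  intro e
  have hs := h.simp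
  have hz : t ∈ center G := mem_center_iff.2 fun g =>
    mem_centralizer_singleton_iff.1 (e ▸ Subgroup.mem_top g)
  rcases IsSimpleGroup.eq_bot_or_eq_top_of_normal (center G) inferInstance with hb | ht'
  · exact ht (Subgroup.mem_bot.1 (hb ▸ hz))
  · exact h.not_comm fun a b => by
      have : b ∈ center G := ht' ▸ Subgroup.mem_top b
      exact mem_center_iff.1 this a

theorem Hyp.exists_invol (h : Hyp P) :
    ∃ t : G, t ∈ centralizer (P : Set G) ∧ t ≠ 1 ∧ t * t = 1 := by
  obtain ⟨x, hx⟩ := exists_prime_orderOf_dvd_card' (G := centralizer (P : Set G)) 2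
    (hp := ⟨Nat.prime_two⟩) (by rw [h.cardC]; exact dvd_mul_right _ _)
  refine ⟨x, x.2, fun e => ?_, ?_⟩
  · rw [show x = 1 from Subtype.ext e, orderOf_one] at hx
    omega
  · have := pow_orderOf_eq_one x
    rw [hx, pow_two] at this
    exact congrArg Subtype.val this

theorem mem_P_of_three_of_mem_N (P : Sylow 3 G) {x : G}
    (hx : x ∈ normalizer ((P : Subgroup G) : Set G)) {k : ℕ} (hk : x ^ (3 ^ k) = 1) :
    x ∈ (P : Subgroup G) := by
  have hz : IsPGroup 3 (zpowers x) := by
    obtain ⟨j, -, hj⟩ := (Nat.dvd_prime_pow Nat.prime_three).1 (orderOf_dvd_of_pow_eq_one hk)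
    exact IsPGroup.of_card (n := j) (by rw [Nat.card_zpowers, hj])
  have := P.is_maximal' (IsPGroup.to_sup_of_normal_right' hz P.2
    (zpowers_le.2 hx)) le_sup_right
  exact this ▸ (le_sup_left : zpowers x ≤ _) (mem_zpowers x)

theorem Hyp.sq_ne_one (_h : Hyp P) {p : G} (hp : p ∈ P) (hp1 : p ≠ 1) : p * p ≠ 1 := by
  intro e
  have h2 : orderOf p ∣ 2 := orderOf_dvd_of_pow_eq_one (by rw [pow_two, e])
  have hd : orderOf p ∣ Nat.card (P : Subgroup G) := Subgroup.orderOf_dvd_natCard _ hp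
  rcases (Nat.dvd_prime Nat.prime_two).1 h2 with h1 | h1
  · exact hp1 (orderOf_eq_one_iff.1 h1)
  · exact not_two_dvd_P P (h1 ▸ hd)

/-- The central involution. -/
noncomputable def Hyp.t (h : Hyp P) : G := h.exists_invol.choose

theorem Hyp.t_mem (h : Hyp P) : h.t ∈ centralizer (P : Set G) := h.exists_invol.choose_spec.1
theorem Hyp.t_ne (h : Hyp P) : h.t ≠ 1 := h.exists_invol.choose_spec.2.1
theorem Hyp.t_sq (h : Hyp P) : h.t * h.t = 1 := h.exists_invol.choose_spec.2.2
theorem Hyp.t_inv (h : Hyp P) : h.t⁻¹ = h.t := inv_eq_of_mul_eq_one_right h.t_sq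

theorem Hyp.t_not_mem (h : Hyp P) : h.t ∉ (P : Subgroup G) :=
  fun hm => h.sq_ne_one hm h.t_ne h.t_sq

theorem Hyp.mem_C_cases (h : Hyp P) {c : G} (hc : c ∈ centralizer (P : Set G)) :
    c ∈ (P : Subgroup G) ∨ h.t * c ∈ (P : Subgroup G) := by
  set C := centralizer (P : Set G)
  have hidx : ((P : Subgroup G).subgroupOf C).index = 2 := by
    have h1 := ((P : Subgroup G).subgroupOf C).card_mul_index
    rw [Nat.card_congr (subgroupOfEquivOfLe h.P_le_C).toEquiv, h.cardC, mul_comm 2 _] at h1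
    exact Nat.eq_of_mul_eq_mul_left Nat.card_pos h1
  by_cases hcP : c ∈ (P : Subgroup G)
  · exact Or.inl hcP
  · right
    have := (mul_mem_iff_of_index_two hidx (a := ⟨h.t, h.t_mem⟩) (b := ⟨c, hc⟩)).2
      (iff_of_false (fun hm => h.t_not_mem hm) (fun hm => hcP hm))
    exact this

theorem Hyp.t_comm_P (h : Hyp P) {p : G} (hp : p ∈ P) : h.t * p = p * h.t :=
  (mem_centralizer_iff.1 h.t_mem p hp).symm

theorem Hyp.C_comm (h : Hyp P) {a b : G} (ha : a ∈ centralizer (P : Set G))
    (hb : b ∈ centralizer (P : Set G)) : a * b = b * a := by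
  rcases h.mem_C_cases hb with hb' | hb'
  · exact (mem_centralizer_iff.1 ha b hb').symm
  · have e : b = h.t * (h.t * b) := by rw [← mul_assoc, h.t_sq, one_mul]
    have h1 : a * (h.t * b) = h.t * b * a := (mem_centralizer_iff.1 ha _ hb').symm
    have h2 : a * h.t = h.t * a := by
      rcases h.mem_C_cases ha with ha' | ha'
      · exact (h.t_comm_P ha').symm
      · have e' : a = h.t * (h.t * a) := by rw [← mul_assoc, h.t_sq, one_mul]
        calc a * h.t = h.t * ((h.t * a) * h.t) := by rw [mul_assoc, ← mul_assoc, h.t_sq, one_mul]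
          _ = h.t * (h.t * (h.t * a)) := by rw [h.t_comm_P ha']
          _ = h.t * a := by rw [← e']
    calc a * b = a * h.t * (h.t * b) := by rw [mul_assoc, ← e]
      _ = h.t * (a * (h.t * b)) := by rw [h2, mul_assoc]
      _ = h.t * (h.t * b) * a := by rw [h1, mul_assoc, mul_assoc, mul_assoc]
      _ = b * a := by rw [← e]

theorem Hyp.eq_t (h : Hyp P) {c : G} (hc : c ∈ centralizer (P : Set G)) (h1 : c ≠ 1)
    (h2 : c * c = 1) : c = h.t := by
  rcases h.mem_C_cases hc with hc' | hc'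
  · exact absurd h2 (h.sq_ne_one hc' h1)
  · by_contra hne
    refine h.sq_ne_one hc' (fun e => hne ?_) ?_
    · rw [← h.t_inv]; exact eq_inv_of_mul_eq_one_right e
    · calc h.t * c * (h.t * c) = h.t * (c * h.t) * c := by simp only [mul_assoc]
        _ = h.t * h.t * (c * c) := by rw [h.C_comm hc h.t_mem]; simp only [mul_assoc]
        _ = 1 := by rw [h.t_sq, h2, one_mul]

theorem Hyp.N_conj_C (_h : Hyp P) {g c : G} (hg : g ∈ normalizer ((P : Subgroup G) : Set G))
    (hc : c ∈ centralizer (P : Set G)) : g * c * g⁻¹ ∈ centralizer (P : Set G) := by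
  refine mem_centralizer_iff.2 fun x hx => ?_
  have hx' : g⁻¹ * x * g ∈ (P : Subgroup G) := by
    have := (Subgroup.mem_normalizer_iff.1 (inv_mem hg) x).1 hx
    simpa using this
  have e := mem_centralizer_iff.1 hc _ hx'
  calc x * (g * c * g⁻¹) = g * ((g⁻¹ * x * g) * c) * g⁻¹ := by group
    _ = g * (c * (g⁻¹ * x * g)) * g⁻¹ := by rw [e]
    _ = g * c * g⁻¹ * x := by group

theorem Hyp.pow_card_eq (h : Hyp P) {p : G} (hp : p ∈ P) : p ^ Nat.card P = 1 :=
  congrArg Subtype.val (pow_card_eq_one' (x := (⟨p, hp⟩ : (P : Subgroup G))))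

theorem Hyp.normalizer_C (h : Hyp P) :
    normalizer ((centralizer (P : Set G) : Subgroup G) : Set G) =
      normalizer ((P : Subgroup G) : Set G) := by
  refine le_antisymm (fun g hg => ?_) (fun g hg => ?_)
  · have key : ∀ g : G, g ∈ normalizer ((centralizer (P : Set G) : Subgroup G) : Set G) →
        ∀ p ∈ (P : Subgroup G), g * p * g⁻¹ ∈ (P : Subgroup G) := by
      intro g hg p hp
      have hc := (Subgroup.mem_normalizer_iff.1 hg p).1 (h.P_le_C hp)
      rcases h.mem_C_cases hc with h' | h'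
      · exact h'
      · exfalso
        have e : (g * p * g⁻¹) ^ Nat.card P = 1 := by
          rw [conj_pow, h.pow_card_eq hp, mul_one, mul_inv_cancel]
        obtain ⟨j, hj⟩ := odd_P P
        have e2 : (h.t * (g * p * g⁻¹)) ^ Nat.card P = 1 := h.pow_card_eq h'
        have hcm : Commute h.t (g * p * g⁻¹) := h.C_comm h.t_mem hc
        rw [hcm.mul_pow, e, mul_one, hj, pow_succ, pow_mul, pow_two, h.t_sq, one_pow,
          one_mul] at e2
        exact h.t_ne e2
    refine Subgroup.mem_normalizer_iff.2 fun p => ⟨key g hg p, fun hp => ?_⟩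
    have := key g⁻¹ (inv_mem hg) _ hp
    simpa [mul_assoc] using this
  · refine Subgroup.mem_normalizer_iff.2 fun c => ⟨h.N_conj_C hg, fun hc => ?_⟩
    have := h.N_conj_C (inv_mem hg) hc
    simpa [mul_assoc] using this

theorem Hyp.mem_N_of_inter (h : Hyp P) {g c : G} (hc : c ∈ centralizer (P : Set G)) (h1 : c ≠ 1)
    (hgc : g * c * g⁻¹ ∈ centralizer (P : Set G)) :
    g ∈ normalizer ((P : Subgroup G) : Set G) := by
  by_contra hg
  rw [← h.normalizer_C] at hg
  exact h1 (h.ti g hg c hc hgc)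

theorem Hyp.centralizer_t (h : Hyp P) :
    centralizer ({h.t} : Set G) = normalizer ((P : Subgroup G) : Set G) := by
  have hle : normalizer ((P : Subgroup G) : Set G) ≤ centralizer ({h.t} : Set G) := by
    intro g hg
    refine mem_centralizer_singleton_iff.2 ?_
    have e : g * h.t * g⁻¹ = h.t := h.eq_t (h.N_conj_C hg h.t_mem)
      (fun e => h.t_ne (by
        have := congrArg (fun x => g⁻¹ * x * g) e
        simpa [mul_assoc] using this))
      (by calc g * h.t * g⁻¹ * (g * h.t * g⁻¹) = g * (h.t * h.t) * g⁻¹ := by group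
          _ = 1 := by rw [h.t_sq, mul_one, mul_inv_cancel])
    exact mul_inv_eq_iff_eq_mul.1 e
  have h2 : 2 ∣ Nat.card (centralizer ({h.t} : Set G)) :=
    (show 2 ∣ Nat.card (normalizer ((P : Subgroup G) : Set G)) by
      rw [h.cardN]; exact Dvd.dvd.mul_right (by norm_num) _).trans (card_dvd_of_le hle)
  have h4 := h.even _ (h.centralizer_ne_top h.t_ne) h2
  refine (eq_of_le_of_card_ge hle ?_).symm
  rw [h.cardN]
  exact Nat.le_of_dvd (Nat.mul_pos (by norm_num) Nat.card_pos) h4

theorem Hyp.mem_N_of_comm_t (h : Hyp P) {g : G} (hg : g * h.t = h.t * g) :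
    g ∈ normalizer ((P : Subgroup G) : Set G) := by
  rw [← h.centralizer_t]; exact mem_centralizer_singleton_iff.2 hg

theorem Hyp.three_dvd (h : Hyp P) : 3 ∣ Nat.card P := by
  obtain ⟨a, ha⟩ := card_P P
  rcases Nat.eq_zero_or_pos a with rfl | hp
  · exact absurd ha h.card_ne_one
  · rw [ha]; exact dvd_pow_self 3 (by omega)

theorem Hyp.card_sylow_two (h : Hyp P) (S : Sylow 2 G) : Nat.card S = 4 := by
  haveI : Fact (Nat.Prime 2) := ⟨Nat.prime_two⟩
  obtain ⟨k, hk⟩ := IsPGroup.iff_card.1 S.2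
  obtain ⟨a, ha⟩ := card_P P
  have hne : (S : Subgroup G) ≠ ⊤ := by
    intro e
    have h3 : 3 ∣ Nat.card G := h.three_dvd.trans (Subgroup.card_subgroup_dvd_card _)
    rw [← Subgroup.card_top, ← e, hk] at h3
    have := (Nat.prime_dvd_prime_iff_eq Nat.prime_three Nat.prime_two).1
      (Nat.prime_three.dvd_of_dvd_pow h3)
    omega
  have h4G : 2 ^ 2 ∣ Nat.card G := by
    have := Subgroup.card_subgroup_dvd_card (normalizer ((P : Subgroup G) : Set G))
    rw [h.cardN] at this
    exact (dvd_mul_right _ _).trans this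
  have h4S : 2 ^ 2 ∣ Nat.card (S : Subgroup G) := by
    rw [S.card_eq_multiplicity]
    exact pow_dvd_pow 2 ((Nat.prime_two.pow_dvd_iff_le_factorization Nat.card_pos.ne').1 h4G)
  have hd := h.even _ hne (dvd_trans (by norm_num) h4S)
  have hco : Nat.Coprime (Nat.card (S : Subgroup G)) (Nat.card P) := by
    rw [hk, ha]
    exact Nat.Coprime.pow _ _ (by norm_num)
  exact Nat.dvd_antisymm (hco.dvd_of_dvd_mul_right hd) h4S

theorem Hyp.exists_conj_ne (h : Hyp P) : ∃ x u : G, x * h.t * x⁻¹ = u ∧ u ≠ h.t ∧ u * u = 1 ∧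
    u * h.t = h.t * u ∧ u ∈ normalizer ((P : Subgroup G) : Set G) ∧
    ∀ v : G, v * v = 1 → v ≠ 1 → IsConj v h.t := by
  haveI : Fact (Nat.Prime 2) := ⟨Nat.prime_two⟩
  have hTp : IsPGroup 2 (zpowers h.t) := by
    refine IsPGroup.of_card (n := 1) ?_
    rw [Nat.card_zpowers, pow_one]
    exact orderOf_eq_prime (by rw [pow_two, h.t_sq]) h.t_ne
  obtain ⟨S, hS⟩ := hTp.exists_le_sylow
  have htS : h.t ∈ (S : Subgroup G) := hS (mem_zpowers _)
  have hScard := h.card_sylow_two S
  have hcomm := IsPGroup.isMulCommutative_of_card_eq_prime_sq (p := 2)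
    (G := (S : Subgroup G)) hScard
  have hSc : ∀ a ∈ (S : Subgroup G), ∀ b ∈ (S : Subgroup G), a * b = b * a :=
    fun a ha b hb => congrArg Subtype.val (hcomm.1.1 ⟨a, ha⟩ ⟨b, hb⟩)
  have hSN : (S : Subgroup G) ≤ normalizer ((P : Subgroup G) : Set G) :=
    fun a ha => h.mem_N_of_comm_t (hSc a ha _ htS)
  -- an element of odd order normalizing but not centralizing `S`
  have hnc : ¬ normalizer (S : Set G) ≤ centralizer (S : Set G) := by
    intro hle
    have hK := MonoidHom.ker_transferSylow_isComplement' S hle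
    have hcard := hK.card_mul
    have hs := h.simp
    rcases IsSimpleGroup.eq_bot_or_eq_top_of_normal (MonoidHom.transferSylow S hle).ker
      inferInstance with hb | ht
    · rw [hb, Subgroup.card_bot, one_mul] at hcard
      have h3 : 3 ∣ Nat.card G := h.three_dvd.trans (Subgroup.card_subgroup_dvd_card _)
      rw [← hcard] at h3
      change 3 ∣ Nat.card S at h3
      rw [hScard] at h3
      omega
    · rw [ht, Subgroup.card_top] at hcard
      have : Nat.card (S : Subgroup G) = 1 := by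
        have hp : 0 < Nat.card G := Nat.card_pos
        nlinarith
      change Nat.card S = 1 at this
      omega
  obtain ⟨x₀, hx₀, hx₀c⟩ := SetLike.not_le_iff_exists.1 hnc
  obtain ⟨m, k, hk, hord⟩ : ∃ m k : ℕ, Odd k ∧ orderOf x₀ = 2 ^ m * k := by
    obtain ⟨m, k, hk, e⟩ := Nat.exists_eq_two_pow_mul_odd (orderOf_pos x₀).ne'
    exact ⟨m, k, hk, e⟩
  set x := x₀ ^ 2 ^ m with hx
  have hxN : x ∈ normalizer (S : Set G) := pow_mem hx₀ _
  have hxk : x ^ k = 1 := by rw [hx, ← pow_mul, ← hord, pow_orderOf_eq_one]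
  have hxc : x ∉ centralizer (S : Set G) := by
    intro hc
    apply hx₀c
    -- the `2`-part lies in `S`
    have hz : IsPGroup 2 (zpowers (x₀ ^ k)) := by
      obtain ⟨j, -, hj⟩ := (Nat.dvd_prime_pow Nat.prime_two).1 (orderOf_dvd_of_pow_eq_one
        (show (x₀ ^ k) ^ 2 ^ m = 1 by rw [← pow_mul, mul_comm, ← hord, pow_orderOf_eq_one]))
      exact IsPGroup.of_card (n := j) (by rw [Nat.card_zpowers, hj])
    have h2 : x₀ ^ k ∈ (S : Subgroup G) := by
      have := S.is_maximal' (IsPGroup.to_sup_of_normal_right' hz S.2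
        (zpowers_le.2 (pow_mem hx₀ _))) le_sup_right
      exact this ▸ (le_sup_left : zpowers (x₀ ^ k) ≤ _) (mem_zpowers _)
    have h2c : x₀ ^ k ∈ centralizer (S : Set G) :=
      mem_centralizer_iff.2 fun y hy => hSc y hy _ h2
    have hcop : Nat.Coprime (2 ^ m) k :=
      Nat.Coprime.pow_left _ (Nat.coprime_two_left.2 hk)
    obtain ⟨a, b, hab⟩ : ∃ a b : ℤ, ((2 ^ m : ℕ) : ℤ) * a + (k : ℤ) * b = 1 := by
      refine ⟨Nat.gcdA (2 ^ m) k, Nat.gcdB (2 ^ m) k, ?_⟩
      have := Nat.gcd_eq_gcd_ab (2 ^ m) k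
      rw [hcop] at this
      exact this.symm
    rw [← zpow_one x₀, ← hab, zpow_add, zpow_mul, zpow_mul, zpow_natCast, zpow_natCast]
    exact mul_mem (zpow_mem hc _) (zpow_mem h2c _)
  have hxt : x * h.t * x⁻¹ ≠ h.t := by
    intro e
    have hxNP := h.mem_N_of_comm_t (mul_inv_eq_iff_eq_mul.1 e)
    have hdvd : orderOf x ∣ 4 * Nat.card P := by
      rw [← h.cardN]; exact Subgroup.orderOf_dvd_natCard _ hxNP
    have hco : Nat.Coprime (orderOf x) 4 :=
      (Nat.Coprime.coprime_dvd_left (orderOf_dvd_of_pow_eq_one hxk)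
        (Nat.Coprime.pow_right 2 (Nat.coprime_two_right.2 hk)))
    obtain ⟨a, ha⟩ := card_P P
    have hxP : x ∈ (P : Subgroup G) := mem_P_of_three_of_mem_N P hxNP
      (orderOf_dvd_iff_pow_eq_one.1 (ha ▸ hco.dvd_of_dvd_mul_left hdvd))
    apply hxc
    refine mem_centralizer_iff.2 fun y hy => ?_
    have h1 : x * y * x⁻¹ * y⁻¹ ∈ (S : Subgroup G) :=
      mul_mem ((Subgroup.mem_normalizer_iff.1 hxN y).1 hy) (inv_mem hy)
    have h2 : x * y * x⁻¹ * y⁻¹ ∈ (P : Subgroup G) := by
      rw [show x * y * x⁻¹ * y⁻¹ = x * (y * x⁻¹ * y⁻¹) by group]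
      exact mul_mem hxP ((Subgroup.mem_normalizer_iff.1 (hSN hy) _).1 (inv_mem hxP))
    have hd : orderOf (x * y * x⁻¹ * y⁻¹) ∣ Nat.gcd 4 (Nat.card (P : Subgroup G)) :=
      Nat.dvd_gcd (hScard ▸ Subgroup.orderOf_dvd_natCard _ h1) (Subgroup.orderOf_dvd_natCard _ h2)
    have hg : Nat.gcd 4 (Nat.card (P : Subgroup G)) = 1 := by
      change Nat.gcd 4 (Nat.card P) = 1
      rw [ha]
      exact Nat.Coprime.pow_right _ (by norm_num)
    rw [hg, Nat.dvd_one, orderOf_eq_one_iff, mul_inv_eq_one, mul_inv_eq_iff_eq_mul] at hd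
    exact hd.symm
  set u := x * h.t * x⁻¹ with hu
  have huS : u ∈ (S : Subgroup G) := (Subgroup.mem_normalizer_iff.1 hxN _).1 htS
  have hu2 : u * u = 1 := by
    rw [hu, show x * h.t * x⁻¹ * (x * h.t * x⁻¹) = x * (h.t * h.t) * x⁻¹ by group, h.t_sq, mul_one,
      mul_inv_cancel]
  have hu1 : u ≠ 1 := fun e => h.t_ne (by
    have := congrArg (fun z => x⁻¹ * z * x) e
    simpa [hu, mul_assoc] using this)
  have htu : h.t * u ∈ (S : Subgroup G) := mul_mem htS huS
  have htu1 : h.t * u ≠ 1 := fun e => hxt (by rw [← h.t_inv]; exact eq_inv_of_mul_eq_one_right e)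
  have hall : ∀ v ∈ (S : Subgroup G), v = 1 ∨ v = h.t ∨ v = u ∨ v = h.t * u := by
    classical
    intro v hv
    by_contra hcon
    simp only [not_or] at hcon
    obtain ⟨c1, c2, c3, c4⟩ := hcon
    let F : Finset (S : Subgroup G) := {⟨1, one_mem _⟩, ⟨h.t, htS⟩, ⟨u, huS⟩, ⟨h.t * u, htu⟩, ⟨v, hv⟩}
    have hF : F.card = 5 := by
      have n1 : h.t * u ≠ h.t := fun e => hu1 (mul_eq_left.1 e)
      have n2 : h.t * u ≠ u := fun e => h.t_ne (mul_eq_right.1 e)
      simp [F, Subtype.ext_iff, h.t_ne.symm, hu1.symm, htu1.symm, Ne.symm hxt, n1.symm, n2.symm,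
        Ne.symm c1, Ne.symm c2, Ne.symm c3, Ne.symm c4]
    haveI := Fintype.ofFinite (S : Subgroup G)
    have := F.card_le_univ
    rw [hF, ← Nat.card_eq_fintype_card] at this
    change 5 ≤ Nat.card S at this
    omega
  have hconj_u : IsConj u h.t := (isConj_iff.2 ⟨x, rfl⟩ : IsConj h.t u).symm
  have hxu : x * u * x⁻¹ ∈ (S : Subgroup G) := (Subgroup.mem_normalizer_iff.1 hxN _).1 huS
  have hconj_tu : IsConj (h.t * u) h.t := by
    rcases hall _ hxu with e | e | e | e
    · exact absurd (by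
        have := congrArg (fun z => x⁻¹ * z * x) e
        simpa [mul_assoc] using this : u = 1) hu1
    · exfalso
      apply hxt
      have h2 : x ^ 2 * h.t = h.t * x ^ 2 := by
        refine mul_inv_eq_iff_eq_mul.1 ?_
        rw [show x ^ 2 * h.t * (x ^ 2)⁻¹ = x * (x * h.t * x⁻¹) * x⁻¹ by rw [pow_two]; group]
        exact e
      obtain ⟨j, hj⟩ := hk
      have hxj : x = (x ^ 2) ^ (j + 1) := by
        rw [← pow_mul, show 2 * (j + 1) = k + 1 by omega, pow_succ, hxk, one_mul]
      have hc : Commute (x ^ 2) h.t := h2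
      have hc' : x * h.t = h.t * x := by
        rw [hxj]; exact (hc.pow_left (j + 1)).eq
      exact mul_inv_eq_iff_eq_mul.2 hc'
    · exact absurd (by
        have := congrArg (fun z => x⁻¹ * z * x) e
        simpa [hu, mul_assoc] using this : u = h.t) hxt
    · exact ((isConj_iff.2 ⟨x, e⟩ : IsConj u (h.t * u)).symm).trans hconj_u
  refine ⟨x, u, rfl, hxt, hu2, hSc u huS _ htS, hSN huS, fun v hv hv1 => ?_⟩
  have hvp : IsPGroup 2 (zpowers v) := by
    refine IsPGroup.of_card (n := 1) ?_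
    rw [Nat.card_zpowers, pow_one]
    exact orderOf_eq_prime (by rw [pow_two, hv]) hv1
  obtain ⟨S', hS'⟩ := hvp.exists_le_sylow
  obtain ⟨g, hg⟩ := MulAction.exists_smul_eq G S S'
  have hvS' : v ∈ ((g • S : Sylow 2 G) : Subgroup G) := hg ▸ hS' (mem_zpowers _)
  rw [Sylow.coe_subgroup_smul, Subgroup.mem_smul_pointwise_iff_exists] at hvS'
  obtain ⟨w, hw, e⟩ := hvS'
  have e' : g * w * g⁻¹ = v := by
    simpa [MulAut.smul_def, MulAut.conj_apply] using e
  have hcv : IsConj v w := (isConj_iff.2 ⟨g, e'⟩ : IsConj w v).symm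
  rcases hall w hw with rfl | rfl | rfl | rfl
  · exact absurd (by simpa using e'.symm) hv1
  · exact hcv
  · exact hcv.trans hconj_u
  · exact hcv.trans hconj_tu

theorem Hyp.conj_of_invol (h : Hyp P) {v : G} (hv : v * v = 1) (h1 : v ≠ 1) : IsConj v h.t := by
  obtain ⟨x, u, -, -, -, -, -, hall⟩ := h.exists_conj_ne
  exact hall v hv h1

theorem Hyp.outside (h : Hyp P) {a : G} (ha : a ∈ normalizer ((P : Subgroup G) : Set G))
    (haC : a ∉ centralizer (P : Set G)) :
    a * a = 1 ∧ ∀ p ∈ (P : Subgroup G), a * p * a⁻¹ = p⁻¹ := by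
  obtain ⟨x, u, hxu, hut, hu2, hucomm, huN, -⟩ := h.exists_conj_ne
  have huinv : u⁻¹ = u := inv_eq_of_mul_eq_one_right hu2
  have huC : u ∉ centralizer (P : Set G) := fun hc => hut (h.eq_t hc
    (fun e => hut (by
      exfalso
      have := congrArg (fun z => x⁻¹ * z * x) (hxu.trans e)
      exact h.t_ne (by simpa [mul_assoc] using this))) hu2)
  -- `u` has no fixed points on `P`
  have hfix : ∀ p ∈ (P : Subgroup G), u * p = p * u → p = 1 := by
    intro p hp hup
    by_contra hp1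
    have hcomm : (x⁻¹ * p * x) * h.t = h.t * (x⁻¹ * p * x) := by
      have e1 : x⁻¹ * u = h.t * x⁻¹ := by rw [← hxu]; group
      have e2 : u * x = x * h.t := by rw [← hxu]; group
      calc x⁻¹ * p * x * h.t = x⁻¹ * p * (x * h.t) := by group
        _ = x⁻¹ * (p * u) * x := by rw [← e2]; group
        _ = x⁻¹ * u * (p * x) := by rw [← hup]; group
        _ = h.t * (x⁻¹ * p * x) := by rw [e1]; group
    obtain ⟨a', ha'⟩ := card_P P
    have hP' : x⁻¹ * p * x ∈ (P : Subgroup G) := mem_P_of_three_of_mem_N P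
      (h.mem_N_of_comm_t hcomm) (k := a') (by
        have e := h.pow_card_eq hp
        rw [ha'] at e
        have := conj_pow (i := 3 ^ a') (a := x⁻¹) (b := p)
        rw [inv_inv, e, mul_one, inv_mul_cancel] at this
        exact this)
    have hx' : x⁻¹ ∈ normalizer ((P : Subgroup G) : Set G) :=
      h.mem_N_of_inter (h.P_le_C hp) hp1 (by rw [inv_inv]; exact h.P_le_C hP')
    have hx : x ∈ centralizer ({h.t} : Set G) := by
      rw [h.centralizer_t]; simpa using inv_mem hx'
    exact hut (by rw [← hxu, mem_centralizer_singleton_iff.1 hx, mul_inv_cancel_right])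
  have hinv : ∀ p ∈ (P : Subgroup G), u * p * u⁻¹ = p⁻¹ := by
    intro p hp
    have hq : u * p * u⁻¹ ∈ (P : Subgroup G) := (Subgroup.mem_normalizer_iff.1 huN p).1 hp
    have hq' : u * p * u ∈ (P : Subgroup G) := by rw [huinv] at hq; exact hq
    have := hfix _ (mul_mem hp hq) (by
      rw [huinv]
      calc u * (p * (u * p * u)) = u * p * u * p * u := by group
        _ = p * (u * p * u) * u := by rw [h.P_comm hq' hp])
    exact eq_inv_of_mul_eq_one_right this
  set N := normalizer ((P : Subgroup G) : Set G)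
  set C := centralizer (P : Set G)
  have hidx : (C.subgroupOf N).index = 2 := by
    have h1 := (C.subgroupOf N).card_mul_index
    rw [Nat.card_congr (subgroupOfEquivOfLe (C_le_N P)).toEquiv, h.cardC, h.cardN,
      show 4 * Nat.card P = 2 * Nat.card P * 2 by ring] at h1
    exact Nat.eq_of_mul_eq_mul_left (Nat.mul_pos two_pos Nat.card_pos) h1
  have huaC : u * a ∈ C := (mul_mem_iff_of_index_two hidx (a := ⟨u, huN⟩) (b := ⟨a, ha⟩)).2
      (iff_of_false (fun hm => huC hm) (fun hm => haC hm))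
  set c := u * a with hc
  have hac : a = u * c := by rw [hc, ← mul_assoc, hu2, one_mul]
  have key : ∀ p ∈ (P : Subgroup G), a * p * a⁻¹ = p⁻¹ := by
    intro p hp
    rw [hac, show u * c * p * (u * c)⁻¹ = u * (c * p * c⁻¹) * u⁻¹ by group,
      h.C_comm huaC (h.P_le_C hp), mul_inv_cancel_right, hinv p hp]
  refine ⟨?_, key⟩
  rw [hac]
  rcases h.mem_C_cases huaC with hcP | hcP
  · calc u * c * (u * c) = (u * c * u⁻¹) * c := by rw [huinv]; group
      _ = 1 := by rw [hinv c hcP, inv_mul_cancel]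
  · have e : c = h.t * (h.t * c) := by rw [← mul_assoc, h.t_sq, one_mul]
    rw [e]
    calc u * (h.t * (h.t * c)) * (u * (h.t * (h.t * c)))
        = (u * h.t) * (h.t * c) * (u * h.t) * (h.t * c) := by group
      _ = (h.t * u) * (h.t * c) * (u⁻¹ * h.t) * (h.t * c) := by rw [huinv, hucomm]
      _ = h.t * (u * (h.t * c) * u⁻¹) * h.t * (h.t * c) := by group
      _ = h.t * (h.t * c)⁻¹ * h.t * (h.t * c) := by rw [hinv _ hcP]
      _ = (h.t * c)⁻¹ * h.t * h.t * (h.t * c) := by rw [h.t_comm_P (inv_mem hcP)]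
      _ = (h.t * c)⁻¹ * (h.t * h.t) * (h.t * c) := by group
      _ = 1 := by rw [h.t_sq, mul_one, inv_mul_cancel]

end Cfsg.Agent.Lib.GS.SmallThree
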