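import Mathlib
import Cfsg.Prelude.Def_KGroupFacts

/-! Central extensions of dihedral and dicyclic groups. -/

set_option autoImplicit false

namespace Cfsg.Agent.Lib.GS

universe u

open scoped commutatorElement

/-- A finite cyclic group of order dividing `N` is an image of `ZMod N`. -/
theorem exists_surj_zmod {K : Type*} [Group K] [IsCyclic K] {N : ℕ} (hN : Nat.card K ∣ N) :
    ∃ π : Multiplicative (ZMod N) →* K, Function.Surjective π := by
  obtain ⟨g, hg⟩ := IsCyclic.exists_generator (α := K)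
  have hgN : g ^ N = 1 := by
    rw [← orderOf_dvd_iff_pow_eq_one, orderOf_eq_card_of_forall_mem_zpowers hg]; exact hN
  let f : ZMod N →+ Additive K := ZMod.lift N ⟨zmultiplesHom (Additive K) (Additive.ofMul g), by
    simp only [zmultiplesHom_apply]
    rw [natCast_zsmul, ← ofMul_pow, hgN, ofMul_one]⟩
  refine ⟨AddMonoidHom.toMultiplicativeLeft f, fun k => ?_⟩
  obtain ⟨i, rfl⟩ := Subgroup.mem_zpowers_iff.mp (hg k)
  refine ⟨Multiplicative.ofAdd (i : ZMod N), ?_⟩
  simp [f, ← ofMul_zpow]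

/-- A group isomorphism with the trivial subgroup. -/
theorem nonempty_equiv_bot (G : Type*) [Group G] (H : Subgroup G) (hH : H = ⊥) :
    Nonempty (H ≃* Multiplicative (ZMod 1)) := by
  subst hH
  haveI : Subsingleton (Multiplicative (ZMod 1)) := Multiplicative.toAdd.injective.subsingleton
  haveI : Unique (⊥ : Subgroup G) := uniqueOfSubsingleton 1
  haveI : Unique (Multiplicative (ZMod 1)) := uniqueOfSubsingleton 1
  exact ⟨MulEquiv.ofUnique⟩

/-- The trivial multiplier criterion. -/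
theorem hasTrivialMultiplier {G : Type u} [Group G] [Finite G]
    (h : ∀ (Γ : Type u) [Group Γ] [Finite Γ] (σ : Γ →* G), Cfsg.IsStemExtension σ → σ.ker = ⊥) :
    Cfsg.HasCyclicSchurMultiplier G 1 := by
  refine ⟨⟨G, inferInstance, inferInstance, MonoidHom.id G, ⟨Function.surjective_id, ?_, ?_⟩, ?_⟩,
    fun Γ _ _ σ hσ => ?_⟩
  · simp [MonoidHom.ker_id]
  · simp [MonoidHom.ker_id]
  · exact nonempty_equiv_bot G _ MonoidHom.ker_id
  · refine ⟨1, fun y => ⟨1, Subtype.ext ?_⟩⟩
    have := Subgroup.mem_bot.mp ((h Γ σ hσ).le y.2)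
    simp [this]

/-- Central extensions of groups generated by `a` and an element inverting it. -/
theorem central_ext_inverting {Γ Q : Type*} [Group Γ] [Group Q] (σ : Γ →* Q)
    (hker : σ.ker ≤ Subgroup.center Γ) (A X : Γ)
    (hgen : Subgroup.closure ({σ A, σ X} : Set Q) = ⊤) (hinv : σ (X * A * X⁻¹) = (σ A)⁻¹) (n : ℕ)
    (hpow : Commute X (A ^ n)) :
    ∃ c : Γ, c ^ n = 1 ∧ σ c = (σ A)⁻¹ * (σ A)⁻¹ ∧ commutator Γ ≤ Subgroup.zpowers c := by
  set k := A * (X * A * X⁻¹) with hk
  have hkc : k ∈ Subgroup.center Γ := hker (by rw [MonoidHom.mem_ker, hk, map_mul, hinv, mul_inv_cancel])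
  have hkcomm : ∀ z, z * k = k * z := fun z => Subgroup.mem_center_iff.mp hkc z
  have hXA : X * A * X⁻¹ = A⁻¹ * k := by rw [hk]; group
  set c := X * A * X⁻¹ * A⁻¹ with hc
  have hc' : c = k * A⁻¹ * A⁻¹ := by rw [hc, hXA, hkcomm A⁻¹]
  have hcA : A * c * A⁻¹ = c := by
    rw [hc', show A * (k * A⁻¹ * A⁻¹) * A⁻¹ = (A * k) * A⁻¹ * (A⁻¹ * A⁻¹) by group, hkcomm A]
    group
  have hcX : X * c * X⁻¹ = c⁻¹ := by
    have hkX : X * k * X⁻¹ = k := by rw [hkcomm X, mul_inv_cancel_right]
    have hkA : ∀ z, z * k⁻¹ = k⁻¹ * z := fun z =>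
      ((show Commute z k from hkcomm z).inv_right).eq
    calc X * c * X⁻¹ = (X * k * X⁻¹) * (X * A * X⁻¹)⁻¹ * (X * A * X⁻¹)⁻¹ := by rw [hc']; group
      _ = k * (k⁻¹ * A) * (k⁻¹ * A) := by rw [hkX, hXA, mul_inv_rev, inv_inv]
      _ = A * (k⁻¹ * A) := by group
      _ = A * A * k⁻¹ := by rw [mul_assoc A A, hkA A]
      _ = c⁻¹ := by simp only [hc', mul_inv_rev, inv_inv, mul_assoc]
  have hcn : c ^ n = 1 := by
    have h1 : A ^ n = (A⁻¹ * k) ^ n := by
      rw [← hXA, conj_pow, hpow.eq, mul_inv_cancel_right]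
    have hcm : Commute A⁻¹ k := hkcomm A⁻¹
    rw [hcm.mul_pow] at h1
    rw [hc', mul_assoc, (show Commute k (A⁻¹ * A⁻¹) from (hkcomm _).symm).mul_pow,
      (Commute.refl A⁻¹).mul_pow, inv_pow]
    rw [inv_pow] at h1
    have h2 : k ^ n = A ^ n * A ^ n := by
      calc k ^ n = A ^ n * ((A ^ n)⁻¹ * k ^ n) := by group
        _ = A ^ n * A ^ n := by rw [← h1]
    rw [h2]; group
  have hσc : σ c = (σ A)⁻¹ * (σ A)⁻¹ := by rw [hc, map_mul, hinv, map_inv]
  -- the subgroup generated by the lifts and the kernel is everything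
  have hall : Subgroup.closure ({A, X} : Set Γ) ⊔ σ.ker = ⊤ := by
    rw [← Subgroup.comap_map_eq, MonoidHom.map_closure, Set.image_pair, hgen, Subgroup.comap_top]
  set C := Subgroup.zpowers c with hC
  have hnorm : C.Normal := by
    rw [← Subgroup.normalizer_eq_top_iff, eq_top_iff, ← hall, sup_le_iff, Subgroup.closure_le]
    have hmem : ∀ g : Γ, g * c * g⁻¹ = c ∨ g * c * g⁻¹ = c⁻¹ →
        g ∈ Subgroup.normalizer (C : Set Γ) := by
      intro g hg
      rw [Subgroup.mem_normalizer_iff]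
      intro z
      simp only [hC, Subgroup.mem_zpowers_iff]
      constructor
      · rintro ⟨i, rfl⟩
        rcases hg with hg | hg
        · exact ⟨i, by rw [← conj_zpow, hg]⟩
        · exact ⟨-i, by rw [← conj_zpow, hg, inv_zpow, zpow_neg]⟩
      · rintro ⟨i, hi⟩
        rcases hg with hg | hg
        · refine ⟨i, ?_⟩
          have : g * c ^ i * g⁻¹ = g * z * g⁻¹ := by rw [← conj_zpow, hg, hi]
          exact mul_left_cancel (mul_right_cancel this)
        · refine ⟨-i, ?_⟩
          have : g * c ^ (-i) * g⁻¹ = g * z * g⁻¹ := by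
            rw [← conj_zpow, hg, inv_zpow, zpow_neg, inv_inv, hi]
          exact mul_left_cancel (mul_right_cancel this)
    refine ⟨?_, fun z hz => hmem z (Or.inl ?_)⟩
    · rintro z (rfl | hz)
      · exact hmem _ (Or.inl hcA)
      · rw [Set.mem_singleton_iff] at hz
        exact hmem _ (Or.inr (hz ▸ hcX))
    · rw [← Subgroup.mem_center_iff.mp (hker hz) c, mul_inv_cancel_right]
  refine ⟨c, hcn, hσc, ?_⟩
  haveI := hnorm
  let π := QuotientGroup.mk' C
  have hAX : Commute (π A) (π X) := by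
    have h1 : π c = 1 := (QuotientGroup.eq_one_iff c).mpr (Subgroup.mem_zpowers c)
    rw [hc, map_mul, map_mul, map_mul, map_inv, map_inv, mul_inv_eq_one, mul_inv_eq_iff_eq_mul] at h1
    exact h1.symm
  rw [commutator_def, Subgroup.commutator_le]
  intro g _ h _
  rw [← QuotientGroup.eq_one_iff]
  change π ⁅g, h⁆ = 1
  rw [map_commutatorElement, commutatorElement_eq_one_iff_commute]
  have hz : ∀ z ∈ σ.ker, ∀ w, Commute (π z) (π w) := fun z hz w =>
    (show Commute z w from (Subgroup.mem_center_iff.mp (hker hz) w).symm).map π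
  have hcen : ∀ y ∈ ({A, X} : Set Γ), ∀ w : Γ, Commute (π y) (π w) := by
    intro y hy w
    have hle : Subgroup.closure ({A, X} : Set Γ) ⊔ σ.ker ≤
        (Subgroup.centralizer {π y}).comap π := by
      refine sup_le ((Subgroup.closure_le _).mpr fun v hv => ?_) fun v hv => ?_
      · rw [SetLike.mem_coe, Subgroup.mem_comap, Subgroup.mem_centralizer_singleton_iff]
        rcases hy with rfl | hy
        · rcases hv with rfl | hv
          · rfl
          · rw [Set.mem_singleton_iff] at hv; subst hv; exact hAX.symm.eq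
        · rw [Set.mem_singleton_iff] at hy; subst hy
          rcases hv with rfl | hv
          · exact hAX.eq
          · rw [Set.mem_singleton_iff] at hv; subst hv; rfl
      · rw [Subgroup.mem_comap, Subgroup.mem_centralizer_singleton_iff]
        exact (hz v hv y).eq
    have := hle (hall ▸ Subgroup.mem_top w)
    rw [Subgroup.mem_comap, Subgroup.mem_centralizer_singleton_iff] at this
    exact this.symm
  have hle : Subgroup.closure ({A, X} : Set Γ) ⊔ σ.ker ≤ (Subgroup.centralizer {π h}).comap π := by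
    refine sup_le ((Subgroup.closure_le _).mpr fun v hv => ?_) fun v hv => ?_
    · rw [SetLike.mem_coe, Subgroup.mem_comap, Subgroup.mem_centralizer_singleton_iff]
      exact (hcen v hv h).eq
    · rw [Subgroup.mem_comap, Subgroup.mem_centralizer_singleton_iff]
      exact (hz v hv h).eq
  have := hle (hall ▸ Subgroup.mem_top g)
  rw [Subgroup.mem_comap, Subgroup.mem_centralizer_singleton_iff] at this
  exact this

theorem dihedral_closure (n : ℕ) :
    Subgroup.closure ({DihedralGroup.r 1, DihedralGroup.sr 0} : Set (DihedralGroup n)) = ⊤ := by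
  rw [Subgroup.eq_top_iff']
  have hr : ∀ i : ZMod n, DihedralGroup.r i ∈
      Subgroup.closure ({DihedralGroup.r 1, DihedralGroup.sr 0} : Set (DihedralGroup n)) := by
    intro i
    obtain ⟨k, rfl⟩ := ZMod.intCast_surjective i
    rw [← DihedralGroup.r_one_zpow]
    exact Subgroup.zpow_mem _ (Subgroup.subset_closure (Set.mem_insert _ _)) k
  rintro (i | i)
  · exact hr i
  · have : DihedralGroup.sr i = DihedralGroup.sr 0 * DihedralGroup.r i := by simp
    rw [this]
    exact Subgroup.mul_mem _ (Subgroup.subset_closure (by simp)) (hr i)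

/-- Stem extensions of dihedral groups. -/
theorem dihedral_stem_ker {n : ℕ} {Γ : Type*} [Group Γ] (σ : Γ →* DihedralGroup n)
    (hσ : Cfsg.IsStemExtension σ) :
    ∃ c : Γ, c ^ n = 1 ∧ ∀ z ∈ σ.ker, ∃ j : ℤ, c ^ j = z ∧ (n : ℤ) ∣ 2 * j := by
  obtain ⟨hs, hc, hk⟩ := hσ
  obtain ⟨A, hA⟩ := hs (DihedralGroup.r 1)
  obtain ⟨X, hX⟩ := hs (DihedralGroup.sr 0)
  have hpow : Commute X (A ^ n) := by
    have : A ^ n ∈ σ.ker := by rw [MonoidHom.mem_ker, map_pow, hA, DihedralGroup.r_one_pow_n]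
    exact Subgroup.mem_center_iff.mp (hc this) X
  obtain ⟨c, hcn, hσc, hle⟩ := central_ext_inverting σ hc A X
    (by rw [hA, hX]; exact dihedral_closure n) (by simp [hA, hX]) n hpow
  refine ⟨c, hcn, fun z hz => ?_⟩
  obtain ⟨j, hj⟩ := Subgroup.mem_zpowers_iff.mp (hle (hk hz))
  refine ⟨j, hj, ?_⟩
  have h1 : σ (c ^ j) = 1 := by rw [hj]; exact MonoidHom.mem_ker.mp hz
  rw [map_zpow, hσc, hA, DihedralGroup.inv_r, DihedralGroup.r_mul_r, DihedralGroup.r_zpow,
    DihedralGroup.one_def] at h1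
  injection h1 with h2
  have h3 : ((2 * j : ℤ) : ZMod n) = 0 := by
    push_cast; linear_combination -h2
  exact (ZMod.intCast_zmod_eq_zero_iff_dvd _ n).mp h3

end Cfsg.Agent.Lib.GS
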