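import Mathlib
import Cfsg.Agent.S4623
import Cfsg.Agent.Lib.Classical.SLTwoSylow

/-!
Sylow 2-subgroups of wreath products inside classical groups: squares lie in the derived subgroup.
-/

set_option autoImplicit false

open scoped commutatorElement

namespace Cfsg.Agent.Lib.GS

open Cfsg.Agent.S4623 Matrix
open scoped MatrixGroups

variable {G S : Type*} [Group G] [Group S]

theorem sq_mem_commutator_mul {H : Subgroup G} {x y : G} (hx : x ∈ H) (hy : y ∈ H)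
    (hx2 : x ^ 2 ∈ ⁅H, H⁆) (hy2 : y ^ 2 ∈ ⁅H, H⁆) : (x * y) ^ 2 ∈ ⁅H, H⁆ := by
  have key : (x * y) ^ 2 = ⁅x, y⁆ * ((y * x ^ 2 * y⁻¹) * y ^ 2) := by
    simp only [commutatorElement_def, pow_two]; group
  have h1 : y * x ^ 2 * y⁻¹ = ⁅y, x ^ 2⁆ * x ^ 2 := by
    simp only [commutatorElement_def]; group
  rw [key, h1]
  exact mul_mem (Subgroup.commutator_mem_commutator hx hy)
    (mul_mem (mul_mem (Subgroup.commutator_mem_commutator hy (pow_mem hx 2)) hx2) hy2)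

theorem sq_mem_commutator_of_inverted {H : Subgroup G} {g w : G} (hg : g ∈ H) (hw : w ∈ H)
    (h : w * g * w⁻¹ = g⁻¹) : g ^ 2 ∈ ⁅H, H⁆ := by
  have : g ^ 2 = ⁅g, w⁆ := by
    rw [commutatorElement_def, show g * w * g⁻¹ * w⁻¹ = g * (w * g * w⁻¹)⁻¹ by group, h, inv_inv, pow_two]
  rw [this]; exact Subgroup.commutator_mem_commutator hg hw

theorem good_pi {ι : Type*} [Finite ι] {p : ℕ} {Q : Subgroup S} (h : Good p Q) :
    Good p (Subgroup.pi Set.univ fun _ : ι => Q) := by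
  intro f hf
  rw [Subgroup.commutator_pi_pi_of_finite (fun _ : ι => Q) (fun _ : ι => Q)]
  intro i hi
  exact h (f i) (hf i hi)

theorem good_quaternion (k : ℕ) (hk : 1 ≤ k) : Good 2 (⊤ : Subgroup (QuaternionGroup (2 ^ k))) := by
  obtain ⟨l, rfl⟩ := Nat.exists_eq_add_of_le hk
  have hcomm : ∀ i : ZMod (2 * 2 ^ (1 + l)), (QuaternionGroup.a (2 * i) : QuaternionGroup (2 ^ (1 + l))) ∈
      ⁅(⊤ : Subgroup (QuaternionGroup (2 ^ (1 + l)))), (⊤ : Subgroup (QuaternionGroup (2 ^ (1 + l))))⁆ := by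
    intro i
    have : ⁅(QuaternionGroup.a i : QuaternionGroup (2 ^ (1 + l))), QuaternionGroup.xa (0 : ZMod (2 * 2 ^ (1 + l)))⁆ =
        QuaternionGroup.a (2 * i) := by
      rw [commutatorElement_def, mul_inv_eq_iff_eq_mul, mul_inv_eq_iff_eq_mul]
      simp only [QuaternionGroup.a_mul_xa, QuaternionGroup.a_mul_a, QuaternionGroup.xa_mul_a,
        QuaternionGroup.xa.injEq]
      ring
    rw [← this]
    exact Subgroup.commutator_mem_commutator (Subgroup.mem_top _) (Subgroup.mem_top _)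
  rintro (i | i) -
  · rw [pow_two, QuaternionGroup.a_mul_a, ← two_mul]; exact hcomm i
  · rw [QuaternionGroup.xa_sq,
      show ((2 ^ (1 + l) : ℕ) : ZMod (2 * 2 ^ (1 + l))) = 2 * (2 ^ l : ℕ) by push_cast; ring]
    exact hcomm _

theorem good_sl_two_sylow {F : Type*} [Field F] [Fintype F] (hF : Odd (Fintype.card F))
    (P : Sylow 2 SL(2, F)) : Good 2 (P : Subgroup SL(2, F)) := by
  obtain ⟨k, hk, ⟨e⟩⟩ := Classical.sl_two_sylow_quaternion hF P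
  have h := good_map ((P : Subgroup SL(2, F)).subtype.comp e.symm.toMonoidHom) (good_quaternion k hk)
  rwa [← MonoidHom.range_eq_map, MonoidHom.range_comp, MonoidHom.range_eq_top.2 e.symm.surjective, ← MonoidHom.range_eq_map,
    Subgroup.range_subtype] at h

/-- The wreath-type subgroup. -/
theorem good_wreath_subgroup {n : ℕ} (Φ : (Fin n → S) →* G) (Ψ : Equiv.Perm (Fin n) →* G)
    (hconj : ∀ σ f, Ψ σ * Φ f * (Ψ σ)⁻¹ = Φ (fun i => f (σ.symm i)))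
    (hinj : ∀ f σ, Φ f * Ψ σ = 1 → f = 1 ∧ σ = 1)
    (K : Subgroup (Fin n → S)) (W : Subgroup (Equiv.Perm (Fin n))) (hWg : Good 2 W)
    (hinv : ∀ σ ∈ W, ∀ f ∈ K, (fun i => f (σ.symm i)) ∈ K)
    (hgen : ∀ H : Subgroup G, K.map Φ ≤ H → W.map Ψ ≤ H → ∀ f ∈ K, Φ f ^ 2 ∈ ⁅H, H⁆) :
    Nat.card (K.map Φ ⊔ W.map Ψ : Subgroup G) = Nat.card K * Nat.card W ∧
      Good 2 (K.map Φ ⊔ W.map Ψ) := by
  have : Fact (Nat.Prime 2) := ⟨Nat.prime_two⟩
  let B := K.map Φ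
  let L := W.map Ψ
  have hnorm : L ≤ Subgroup.normalizer (B : Set G) := by
    rintro _ ⟨σ, hσ, rfl⟩
    rw [Subgroup.mem_normalizer_iff]
    intro g
    constructor
    · rintro ⟨f, hf, rfl⟩
      exact ⟨_, hinv σ hσ f hf, (hconj σ f).symm⟩
    · rintro ⟨f, hf, hfe⟩
      refine ⟨_, hinv σ⁻¹ (inv_mem hσ) f hf, ?_⟩
      rw [← hconj σ⁻¹ f, hfe, map_inv]; group
  have hXset : ((B ⊔ L : Subgroup G) : Set G) =
      Set.range fun y : K × W => Φ (y.1 : Fin n → S) * Ψ (y.2 : Equiv.Perm (Fin n)) := by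
    rw [Subgroup.coe_mul_of_right_le_normalizer_left B L hnorm]
    ext z
    simp only [Set.mem_range, Prod.exists]
    constructor
    · rintro ⟨_, ⟨f, hf, rfl⟩, _, ⟨σ, hσ, rfl⟩, rfl⟩; exact ⟨⟨f, hf⟩, ⟨σ, hσ⟩, rfl⟩
    · rintro ⟨f, σ, rfl⟩; exact ⟨_, ⟨f, f.2, rfl⟩, _, ⟨σ, σ.2, rfl⟩, rfl⟩
  have hinj' : Function.Injective fun y : K × W =>
      Φ (y.1 : Fin n → S) * Ψ (y.2 : Equiv.Perm (Fin n)) := by
    rintro ⟨f, σ⟩ ⟨g, τ⟩ h
    obtain ⟨h1, h2⟩ := hinj ((g : Fin n → S)⁻¹ * f) ((σ : Equiv.Perm (Fin n)) * (τ : Equiv.Perm (Fin n))⁻¹) (by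
      simp only [map_mul, map_inv] at *
      rw [show (Φ g)⁻¹ * Φ f * (Ψ σ * (Ψ τ)⁻¹) = (Φ g)⁻¹ * (Φ f * Ψ σ) * (Ψ τ)⁻¹ by group, h]
      group)
    exact Prod.ext (Subtype.ext (inv_mul_eq_one.1 h1).symm) (Subtype.ext (mul_inv_eq_one.1 h2))
  refine ⟨?_, ?_⟩
  · rw [← Nat.card_prod, ← Nat.card_range_of_injective hinj', ← hXset]; rfl
  · exact good_of_gen rfl
      (fun z ⟨f, hf, hz⟩ => by rw [← hz]; exact hgen _ le_sup_left le_sup_right f hf)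
      (fun z hz => Subgroup.commutator_mono le_sup_right le_sup_right (good_map Ψ hWg z hz))

/-- The general wreath-type criterion. -/
theorem sylow_good_wreath [Finite G] {n : ℕ} (Φ : (Fin n → S) →* G) (Ψ : Equiv.Perm (Fin n) →* G)
    (hconj : ∀ σ f, Ψ σ * Φ f * (Ψ σ)⁻¹ = Φ (fun i => f (σ.symm i)))
    (hinj : ∀ f σ, Φ f * Ψ σ = 1 → f = 1 ∧ σ = 1)
    (K : Subgroup (Fin n → S)) (W : Subgroup (Equiv.Perm (Fin n))) (hWg : Good 2 W)
    (hinv : ∀ σ ∈ W, ∀ f ∈ K, (fun i => f (σ.symm i)) ∈ K)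
    (hcard : Nat.card K * Nat.card W = 2 ^ (Nat.card G).factorization 2)
    (hgen : ∀ H : Subgroup G, K.map Φ ≤ H → W.map Ψ ≤ H → ∀ f ∈ K, Φ f ^ 2 ∈ ⁅H, H⁆)
    (P : Sylow 2 G) (x : (P : Subgroup G)) : x ^ 2 ∈ commutator ↥(P : Subgroup G) := by
  have : Fact (Nat.Prime 2) := ⟨Nat.prime_two⟩
  obtain ⟨hc, hg⟩ := good_wreath_subgroup Φ Ψ hconj hinj K W hWg hinv hgen
  exact good_of_sylow P (Sylow.ofCard _ (hc.trans hcard)) (by simpa using hg) x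

/-- The criterion inside a subgroup `N` of `G`. -/
theorem sylow_good_wreath_inj {N : Type*} [Group N] [Finite N] (j : N →* G) (hj : Function.Injective j)
    {n : ℕ} (Φ : (Fin n → S) →* G) (Ψ : Equiv.Perm (Fin n) →* G)
    (hconj : ∀ σ f, Ψ σ * Φ f * (Ψ σ)⁻¹ = Φ (fun i => f (σ.symm i)))
    (hinj : ∀ f σ, Φ f * Ψ σ = 1 → f = 1 ∧ σ = 1)
    (K : Subgroup (Fin n → S)) (W : Subgroup (Equiv.Perm (Fin n))) (hWg : Good 2 W)
    (hinv : ∀ σ ∈ W, ∀ f ∈ K, (fun i => f (σ.symm i)) ∈ K)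
    (hKj : K.map Φ ≤ j.range) (hWj : W.map Ψ ≤ j.range)
    (hcard : Nat.card K * Nat.card W = 2 ^ (Nat.card N).factorization 2)
    (hgen : ∀ H : Subgroup G, K.map Φ ≤ H → W.map Ψ ≤ H → ∀ f ∈ K, Φ f ^ 2 ∈ ⁅H, H⁆)
    (P : Sylow 2 N) (x : (P : Subgroup N)) : x ^ 2 ∈ commutator ↥(P : Subgroup N) := by
  have : Fact (Nat.Prime 2) := ⟨Nat.prime_two⟩
  obtain ⟨hc, hg⟩ := good_wreath_subgroup Φ Ψ hconj hinj K W hWg hinv hgen
  let Y := (K.map Φ ⊔ W.map Ψ).comap j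
  have hY : Y.map j = K.map Φ ⊔ W.map Ψ := Subgroup.map_comap_eq_self (sup_le hKj hWj)
  have hYg : Good 2 Y := by
    intro y hy
    have h := hg (j y) hy
    rw [← hY, ← Subgroup.map_commutator, ← map_pow] at h
    exact (Subgroup.mem_map_iff_mem hj).1 h
  have hYc : Nat.card Y = 2 ^ (Nat.card N).factorization 2 := by
    rw [← hcard, ← hc, ← hY, Subgroup.card_map_of_injective hj]
  exact good_of_sylow P (Sylow.ofCard _ hYc) (by simpa using hYg) x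

end Cfsg.Agent.Lib.GS
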