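import Cfsg.Agent.Lib.GS.SylowGood

/-!
Block-diagonal and block-permutation embeddings, a Sylow 2-subgroup of GL₂ in odd characteristic.
-/

set_option autoImplicit false

open scoped commutatorElement

namespace Cfsg.Agent.Lib.GS

open Cfsg.Agent.S4623 Matrix
open scoped MatrixGroups

variable {F : Type*} [Field F]

/-- Block permutation matrices. -/
def pBlock (F : Type*) [Field F] (m : ℕ) : Equiv.Perm (Fin m) →* GL (Fin 2 × Fin m) F :=
  MonoidHom.toHomUnits
    { toFun := fun σ => Equiv.Perm.permMatrix F (Equiv.prodCongrRight fun _ : Fin 2 => σ⁻¹)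
      map_one' := by
        rw [inv_one]
        exact Matrix.permMatrix_one
      map_mul' := fun σ τ => by
        rw [← Matrix.permMatrix_mul]
        congr 1 }

/-- Block diagonal matrices. -/
def dBlock (F : Type*) [Field F] (m : ℕ) : (Fin m → GL (Fin 2) F) →* GL (Fin 2 × Fin m) F :=
  MonoidHom.toHomUnits
    { toFun := fun f => Matrix.blockDiagonal fun k => (f k : Matrix (Fin 2) (Fin 2) F)
      map_one' := Matrix.blockDiagonal_one
      map_mul' := fun f g => Matrix.blockDiagonal_mul _ _ }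

theorem pBlock_mul_apply {m : ℕ} (σ : Equiv.Perm (Fin m)) (M : Matrix (Fin 2 × Fin m) (Fin 2 × Fin m) F)
    (x y : Fin 2 × Fin m) :
    ((pBlock F m σ : Matrix (Fin 2 × Fin m) (Fin 2 × Fin m) F) * M) x y = M (x.1, σ.symm x.2) y := by
  change (Equiv.Perm.permMatrix F (Equiv.prodCongrRight fun _ : Fin 2 => σ⁻¹) * M) x y = _
  rw [Equiv.Perm.permMatrix, PEquiv.toMatrix_toPEquiv_mul]
  rfl

theorem mul_pBlock_apply {m : ℕ} (σ : Equiv.Perm (Fin m)) (M : Matrix (Fin 2 × Fin m) (Fin 2 × Fin m) F)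
    (x y : Fin 2 × Fin m) :
    (M * (pBlock F m σ : Matrix (Fin 2 × Fin m) (Fin 2 × Fin m) F)) x y = M x (y.1, σ y.2) := by
  change (M * Equiv.Perm.permMatrix F (Equiv.prodCongrRight fun _ : Fin 2 => σ⁻¹)) x y = _
  rw [Equiv.Perm.permMatrix, PEquiv.mul_toMatrix_toPEquiv]
  rfl

theorem block_conj {m : ℕ} (σ : Equiv.Perm (Fin m)) (f : Fin m → GL (Fin 2) F) :
    pBlock F m σ * dBlock F m f * (pBlock F m σ)⁻¹ = dBlock F m (fun i => f (σ.symm i)) := by
  rw [mul_inv_eq_iff_eq_mul]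
  apply Units.ext
  ext ⟨a, k⟩ ⟨b, l⟩
  rw [Units.val_mul, Units.val_mul, pBlock_mul_apply, mul_pBlock_apply]
  change blockDiagonal (fun k => (f k : Matrix (Fin 2) (Fin 2) F)) (a, σ.symm k) (b, l) =
    blockDiagonal (fun k => (f (σ.symm k) : Matrix (Fin 2) (Fin 2) F)) (a, k) (b, σ l)
  simp only [blockDiagonal_apply, Equiv.symm_apply_eq]

theorem block_inj {m : ℕ} (f : Fin m → GL (Fin 2) F) (σ : Equiv.Perm (Fin m))
    (h : dBlock F m f * pBlock F m σ = 1) : f = 1 ∧ σ = 1 := by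
  have h1 : ∀ x y, ((dBlock F m f : Matrix (Fin 2 × Fin m) (Fin 2 × Fin m) F)) x (y.1, σ y.2) =
      (1 : Matrix (Fin 2 × Fin m) (Fin 2 × Fin m) F) x y := fun x y => by
    rw [← mul_pBlock_apply σ (dBlock F m f : Matrix (Fin 2 × Fin m) (Fin 2 × Fin m) F), ← Units.val_mul, h,
      Units.val_one]
  have hd : ∀ x y, ((dBlock F m f : Matrix (Fin 2 × Fin m) (Fin 2 × Fin m) F)) x y =
      if x.2 = y.2 then (f x.2 : Matrix (Fin 2) (Fin 2) F) x.1 y.1 else 0 := fun x y => rfl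
  have hσ : σ = 1 := by
    refine Equiv.ext fun k => by_contra fun hk => ?_
    have := h1 (0, k) (0, k)
    rw [hd, if_neg (by simpa [eq_comm] using hk)] at this
    simp at this
  subst hσ
  refine ⟨funext fun k => Units.ext (Matrix.ext fun a b => ?_), rfl⟩
  have := h1 (a, k) (b, k)
  rw [hd] at this
  simpa [Matrix.one_apply] using this

theorem det_pBlock {m : ℕ} (σ : Equiv.Perm (Fin m)) : GeneralLinearGroup.det (pBlock F m σ) = 1 := by
  apply Units.ext
  change det (Equiv.Perm.permMatrix F (Equiv.prodCongrRight fun _ : Fin 2 => σ⁻¹)) = 1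
  rw [det_permutation, Equiv.Perm.sign_prodCongrRight, Finset.prod_const, Finset.card_univ, Fintype.card_fin,
    Int.units_sq]
  simp

theorem det_dBlock {m : ℕ} (f : Fin m → GL (Fin 2) F) :
    GeneralLinearGroup.det (dBlock F m f) = ∏ k, GeneralLinearGroup.det (f k) := by
  apply Units.ext
  rw [Units.coe_prod]
  exact det_blockDiagonal (fun k => (f k : Matrix (Fin 2) (Fin 2) F))

/-- Diagonal matrix with entries ζ, 1. -/
def dOne (F : Type*) [Field F] : Fˣ →* GL (Fin 2) F :=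
  MonoidHom.toHomUnits
    { toFun := fun u => !![(u : F), 0; 0, 1]
      map_one' := by simp [← Matrix.one_fin_two]
      map_mul' := fun u v => by simp [Matrix.mul_fin_two] }

theorem det_dOne (u : Fˣ) : GeneralLinearGroup.det (dOne F u) = u :=
  Units.ext (by
    change det !![(u : F), 0; 0, 1] = _
    simp [det_fin_two])

variable [Fintype F]

/-- The 2-part of `q - 1`. -/
noncomputable def vOne (F : Type*) [Fintype F] : ℕ := padicValNat 2 (Fintype.card F - 1)

theorem exists_two_part_gen : ∃ ζ : Fˣ, orderOf ζ = 2 ^ vOne F ∧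
    ∀ u : Fˣ, (∃ k, u ^ 2 ^ k = 1) → u ∈ Subgroup.zpowers ζ := by
  have : Fact (Nat.Prime 2) := ⟨Nat.prime_two⟩
  obtain ⟨U⟩ : Nonempty (Sylow 2 Fˣ) := inferInstance
  obtain ⟨ζ, hζ⟩ := (inferInstance : IsCyclic (U : Subgroup Fˣ)).exists_generator
  refine ⟨ζ, ?_, fun u ⟨k, hk⟩ => ?_⟩
  · rw [Subgroup.orderOf_coe, orderOf_eq_card_of_forall_mem_zpowers hζ, U.card_eq_multiplicity,
      Nat.card_units, Nat.card_eq_fintype_card, Nat.factorization_def _ Nat.prime_two, vOne]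
  · obtain ⟨j, -, hj⟩ := (Nat.dvd_prime_pow Nat.prime_two).1 (orderOf_dvd_of_pow_eq_one hk)
    obtain ⟨V, hV⟩ := (IsPGroup.of_card (p := 2) (n := j) ((Nat.card_zpowers u).trans hj)).exists_le_sylow
    have huU : u ∈ (U : Subgroup Fˣ) := by
      obtain ⟨g, rfl⟩ := MulAction.exists_smul_eq Fˣ V U
      rw [Sylow.coe_subgroup_smul]
      refine Subgroup.mem_pointwise_smul_iff_inv_smul_mem.2 ?_
      simpa [MulAut.smul_def, mul_comm] using hV (Subgroup.mem_zpowers u)
    obtain ⟨i, hi⟩ := Subgroup.mem_zpowers_iff.1 (hζ ⟨u, huU⟩)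
    exact Subgroup.mem_zpowers_iff.2 ⟨i, by simpa using congrArg Subtype.val hi⟩

theorem exists_sylow_gl_two (hF : Odd (Fintype.card F)) :
    ∃ (ζ : Fˣ) (T : Sylow 2 (GL (Fin 2) F)) (Q : Subgroup (GL (Fin 2) F)),
      orderOf ζ = 2 ^ vOne F ∧ Good 2 Q ∧ Q ≤ T ∧ dOne F ζ ∈ T ∧
      (∀ t ∈ Q, GeneralLinearGroup.det t = 1) ∧
      ∀ t ∈ T, ∃ q ∈ Q, ∃ e : ℤ, t = q * dOne F ζ ^ e := by
  have : Fact (Nat.Prime 2) := ⟨Nat.prime_two⟩
  obtain ⟨ζ, hζ, hgen⟩ := exists_two_part_gen (F := F)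
  have hp : IsPGroup 2 (Subgroup.zpowers (dOne F ζ)) := by
    obtain ⟨j, -, hj⟩ := (Nat.dvd_prime_pow Nat.prime_two).1 (hζ ▸ orderOf_map_dvd (dOne F) ζ)
    exact IsPGroup.of_card (n := j) ((Nat.card_zpowers _).trans hj)
  obtain ⟨T, hT⟩ := hp.exists_le_sylow
  let ι : SL(2, F) →* GL (Fin 2) F := SpecialLinearGroup.toGL
  have hι : Function.Injective ι := Classical.toGL_injective
  let Q0 := (T : Subgroup (GL (Fin 2) F)).comap ι
  have hQp : IsPGroup 2 Q0 := T.isPGroup'.comap_of_injective ι hι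
  have hidx : ¬ 2 ∣ Q0.index := by
    rw [Subgroup.index_comap]
    have hN : ι.range.Normal := by
      rw [show ι.range = GeneralLinearGroup.det.ker from Classical.det_ker_eq_range_toGL.symm]
      infer_instance
    intro h
    refine T.not_dvd_index (h.trans ?_)
    let A : Subgroup (GL (Fin 2) F) := T
    let N := ι.range
    have h1 : (A ⊓ N).relIndex A * A.relIndex (A ⊔ N) = (A ⊓ N).relIndex N * N.relIndex (A ⊔ N) := by
      rw [Subgroup.relIndex_mul_relIndex _ _ _ inf_le_left le_sup_left,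
        Subgroup.relIndex_mul_relIndex _ _ _ inf_le_right le_sup_right]
    rw [Subgroup.inf_relIndex_left, Subgroup.inf_relIndex_right, Subgroup.relIndex_sup_right,
      mul_comm (A.relIndex N)] at h1
    have h2 := Nat.eq_of_mul_eq_mul_left (Nat.pos_of_ne_zero Subgroup.index_ne_zero_of_finite) h1
    change A.relIndex N ∣ A.index
    rw [← h2, ← Subgroup.relIndex_mul_index (le_sup_left : A ≤ A ⊔ N)]
    exact dvd_mul_right _ _
  have hQ0 : Good 2 Q0 := by simpa using good_sl_two_sylow hF (hQp.toSylow hidx)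
  have hTd : dOne F ζ ∈ (T : Subgroup (GL (Fin 2) F)) := hT (Subgroup.mem_zpowers _)
  refine ⟨ζ, T, Q0.map ι, hζ, good_map ι hQ0, Subgroup.map_comap_le ι _, hTd, ?_, ?_⟩
  · rintro _ ⟨s, -, rfl⟩
    exact Units.ext s.2
  · intro t ht
    obtain ⟨k, hk⟩ := T.isPGroup' ⟨t, ht⟩
    obtain ⟨e, he⟩ := Subgroup.mem_zpowers_iff.1 (hgen (GeneralLinearGroup.det t) ⟨k, by
      rw [← map_pow, show t ^ 2 ^ k = 1 from congrArg Subtype.val hk, map_one]⟩)
    have hdet : t * (dOne F ζ ^ e)⁻¹ ∈ GeneralLinearGroup.det.ker := by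
      rw [MonoidHom.mem_ker, map_mul, map_inv, map_zpow, det_dOne, he, mul_inv_cancel]
    rw [Classical.det_ker_eq_range_toGL] at hdet
    obtain ⟨s, hs⟩ := hdet
    refine ⟨_, ⟨s, ?_, hs⟩, e, by group⟩
    change ι s ∈ (T : Subgroup (GL (Fin 2) F))
    rw [hs]
    exact mul_mem ht (inv_mem (zpow_mem hTd e))

end Cfsg.Agent.Lib.GS
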