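import Cfsg.Agent.Lib.GS.SylowGoodGL

/-!
2-adic valuations of orders of classical groups in odd characteristic.
-/

set_option autoImplicit false

namespace Cfsg.Agent.Lib.GS

open Matrix
open scoped MatrixGroups

variable {q : ℕ}

theorem v2_even_pow (hq : 1 < q) (ho : ¬ 2 ∣ q) {k : ℕ} (hk : k ≠ 0) :
    padicValNat 2 (q ^ (2 * k) - 1) = padicValNat 2 (q ^ 2 - 1) + padicValNat 2 k := by
  have : Fact (Nat.Prime 2) := ⟨Nat.prime_two⟩
  have h1 := padicValNat.pow_two_sub_one hq ho (n := 2 * k) (by omega) (even_two_mul k)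
  have h2 := padicValNat.pow_two_sub_one hq ho (n := 2) two_ne_zero even_two
  rw [padicValNat.mul two_ne_zero hk] at h1
  omega

theorem v2_odd_pow (hq : 1 < q) (ho : ¬ 2 ∣ q) (j : ℕ) :
    padicValNat 2 (q ^ (2 * j + 1) - 1) = padicValNat 2 (q - 1) := by
  have : Fact (Nat.Prime 2) := ⟨Nat.prime_two⟩
  set k := 2 * j + 1 with hk
  have hkodd : Odd k := ⟨j, hk⟩
  have hk1 : 1 < q ^ k := Nat.one_lt_pow (by omega) hq
  have h1 := v2_even_pow hq ho (k := k) (by omega)
  have hv : padicValNat 2 k = 0 := padicValNat.eq_zero_of_not_dvd (by omega)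
  have e1 : q ^ (2 * k) - 1 = (q ^ k + 1) * (q ^ k - 1) := by
    rw [mul_comm 2 k, pow_mul]; simpa using Nat.pow_two_sub_pow_two (q ^ k) 1
  have e2 : q ^ 2 - 1 = (q + 1) * (q - 1) := by simpa using Nat.pow_two_sub_pow_two q 1
  rw [hv, e1, e2, padicValNat.mul (by omega) (by omega), padicValNat.mul (by omega) (by omega)] at h1
  have d1 : q - 1 ∣ q ^ k - 1 := by simpa using Nat.sub_dvd_pow_sub_pow q 1 k
  have d2 : q + 1 ∣ q ^ k + 1 := by simpa using hkodd.nat_add_dvd_pow_add_pow q 1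
  have i1 : padicValNat 2 (q - 1) ≤ padicValNat 2 (q ^ k - 1) :=
    (padicValNat_dvd_iff_le (by omega)).1 (pow_padicValNat_dvd.trans d1)
  have i2 : padicValNat 2 (q + 1) ≤ padicValNat 2 (q ^ k + 1) :=
    (padicValNat_dvd_iff_le (by omega)).1 (pow_padicValNat_dvd.trans d2)
  omega

theorem v2_prod_even (hq : 1 < q) (ho : ¬ 2 ∣ q) (n : ℕ) :
    padicValNat 2 (∏ i ∈ Finset.range n, (q ^ (2 * (i + 1)) - 1)) =
      n * padicValNat 2 (q ^ 2 - 1) + padicValNat 2 n.factorial ∧
    ∏ i ∈ Finset.range n, (q ^ (2 * (i + 1)) - 1) ≠ 0 := by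
  have : Fact (Nat.Prime 2) := ⟨Nat.prime_two⟩
  induction n with
  | zero => simp
  | succ n ih =>
    have hne : q ^ (2 * (n + 1)) - 1 ≠ 0 := by
      have := Nat.one_lt_pow (n := 2 * (n + 1)) (by omega) hq
      omega
    rw [Finset.prod_range_succ]
    refine ⟨?_, mul_ne_zero ih.2 hne⟩
    rw [padicValNat.mul ih.2 hne, ih.1, v2_even_pow hq ho (Nat.succ_ne_zero n), Nat.factorial_succ,
      padicValNat.mul (Nat.succ_ne_zero n) (Nat.factorial_ne_zero n)]
    ring

theorem v2_prod_all (hq : 1 < q) (ho : ¬ 2 ∣ q) (m : ℕ) :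
    padicValNat 2 (∏ i ∈ Finset.range (2 * m), (q ^ (i + 1) - 1)) =
      m * (padicValNat 2 (q - 1) + padicValNat 2 (q ^ 2 - 1)) + padicValNat 2 m.factorial ∧
    ∏ i ∈ Finset.range (2 * m), (q ^ (i + 1) - 1) ≠ 0 := by
  have : Fact (Nat.Prime 2) := ⟨Nat.prime_two⟩
  induction m with
  | zero => simp
  | succ m ih =>
    have hne : ∀ i, q ^ (i + 1) - 1 ≠ 0 := fun i => by
      have := Nat.one_lt_pow (n := i + 1) (by omega) hq
      omega
    rw [show 2 * (m + 1) = 2 * m + 1 + 1 by ring, Finset.prod_range_succ, Finset.prod_range_succ]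
    refine ⟨?_, mul_ne_zero (mul_ne_zero ih.2 (hne _)) (hne _)⟩
    rw [padicValNat.mul (mul_ne_zero ih.2 (hne _)) (hne _), padicValNat.mul ih.2 (hne _), ih.1,
      v2_odd_pow hq ho, show 2 * m + 1 + 1 = 2 * (m + 1) by ring, v2_even_pow hq ho (Nat.succ_ne_zero m),
      Nat.factorial_succ, padicValNat.mul (Nat.succ_ne_zero m) (Nat.factorial_ne_zero m)]
    ring

variable {F : Type*} [Field F] [Fintype F]

theorem v2_card_GL (hF : Odd (Fintype.card F)) (n : ℕ) :
    padicValNat 2 (Nat.card (GL (Fin n) F)) =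
      padicValNat 2 (∏ i ∈ Finset.range n, (Fintype.card F ^ (i + 1) - 1)) := by
  have : Fact (Nat.Prime 2) := ⟨Nat.prime_two⟩
  have hq1 : 1 < Fintype.card F := Fintype.one_lt_card
  have ho : ¬ 2 ∣ Fintype.card F := by rw [Nat.odd_iff] at hF; omega
  generalize hq : Fintype.card F = q at hq1 ho ⊢
  have key : ∏ i : Fin n, (q ^ n - q ^ (i : ℕ)) =
      q ^ (∑ i ∈ Finset.range n, i) * ∏ i ∈ Finset.range n, (q ^ (i + 1) - 1) := by
    rw [Fin.prod_univ_eq_prod_range (fun i => q ^ n - q ^ i) n,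
      ← Finset.prod_range_reflect (fun i => q ^ (i + 1) - 1) n, ← Finset.prod_pow_eq_pow_sum,
      ← Finset.prod_mul_distrib]
    refine Finset.prod_congr rfl fun i hi => ?_
    rw [Finset.mem_range] at hi
    rw [Nat.mul_sub, mul_one, ← pow_add, show i + (n - 1 - i + 1) = n by omega]
  rw [card_GL_field, hq, key,
    padicValNat.mul (by positivity) (Finset.prod_ne_zero_iff.2 fun i _ => by
      have := Nat.one_lt_pow (n := i + 1) (by omega) hq1
      omega),
    padicValNat.eq_zero_of_not_dvd (fun h => ho (Nat.prime_two.dvd_of_dvd_pow h)), zero_add]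

theorem v2_card_SL_two (hF : Odd (Fintype.card F)) :
    padicValNat 2 (Nat.card SL(2, F)) = padicValNat 2 (Fintype.card F ^ 2 - 1) := by
  have : Fact (Nat.Prime 2) := ⟨Nat.prime_two⟩
  have hq1 : 1 < Fintype.card F := Fintype.one_lt_card
  have hne : Fintype.card F ^ 2 - 1 ≠ 0 := by
    have := Nat.one_lt_pow (n := 2) two_ne_zero hq1
    omega
  rw [Classical.card_SL_two, padicValNat.mul (by omega) hne, padicValNat.eq_zero_of_not_dvd (by
    rw [Nat.odd_iff] at hF; omega), zero_add]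

theorem sylow_two_card {G : Type*} [Group G] [Finite G] (T : Sylow 2 G) :
    Nat.card (T : Subgroup G) = 2 ^ padicValNat 2 (Nat.card G) := by
  rw [T.card_eq_multiplicity, Nat.factorization_def _ Nat.prime_two]

theorem card_pi_univ {S : Type*} [Group S] (Q : Subgroup S) (n : ℕ) :
    Nat.card (Subgroup.pi Set.univ fun _ : Fin n => Q) = Nat.card Q ^ n := by
  rw [show Nat.card Q ^ n = Nat.card (Fin n → Q) by simp [Nat.card_fun]]
  exact Nat.card_congr
    { toFun := fun f i => ⟨f.1 i, f.2 i trivial⟩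
      invFun := fun f => ⟨fun i => f i, fun i _ => (f i).2⟩
      left_inv := fun _ => rfl
      right_inv := fun _ => rfl }

/-- Powers of a fixed element, coordinatewise. -/
def powVec {S : Type*} [Group S] (d : S) (m : ℕ) : (Fin m → ℤ) →+ Additive (Fin m → S) where
  toFun e := Additive.ofMul fun i => d ^ e i
  map_zero' := by
    apply Additive.toMul.injective
    funext i
    simp
  map_add' e e' := by
    apply Additive.toMul.injective
    funext i
    simp [_root_.zpow_add]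

/-- Decomposition of tuples in a Sylow 2-subgroup of GL₂. -/
theorem decompose_tuple {S : Type*} [Group S] {T Q : Subgroup S} {d : S}
    (h : ∀ t ∈ T, ∃ q ∈ Q, ∃ e : ℤ, t = q * d ^ e) {m : ℕ} {f : Fin m → S} (hf : ∀ i, f i ∈ T) :
    ∃ q : Fin m → S, (∀ i, q i ∈ Q) ∧ ∃ e : Fin m → ℤ, f = q * Additive.toMul (powVec d m e) := by
  choose q hq e he using fun i => h (f i) (hf i)
  exact ⟨q, hq, e, funext he⟩

theorem good_pi_map {S G : Type*} [Group S] [Group G] {m : ℕ} (Φ : (Fin m → S) →* G) {Q : Subgroup S}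
    (hQ : Cfsg.Agent.S4623.Good 2 Q) {H : Subgroup G}
    (hH : (Subgroup.pi Set.univ fun _ : Fin m => Q).map Φ ≤ H) {q : Fin m → S} (hq : ∀ i, q i ∈ Q) :
    Φ q ^ 2 ∈ ⁅H, H⁆ :=
  Subgroup.commutator_mono hH hH
    (Cfsg.Agent.S4623.good_map Φ (good_pi hQ) _ (Subgroup.mem_map_of_mem Φ fun i _ => hq i))

end Cfsg.Agent.Lib.GS
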