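import Mathlib
import Cfsg.Agent.Lib.GS.Basic

/-! Wielandt's zipper lemma and a join lemma for subnormal subgroups. -/

set_option autoImplicit false

namespace Cfsg.Agent.Lib.GS

variable {G : Type*} [Group G]

/-- The image of a subgroup under conjugation. -/
abbrev cmap (g : G) (A : Subgroup G) : Subgroup G := A.map (MulAut.conj g).toMonoidHom

theorem mem_cmap {g y : G} {A : Subgroup G} : y ∈ cmap g A ↔ g⁻¹ * y * g ∈ A := by
  constructor
  · rintro ⟨x, hx, rfl⟩
    simp only [MulEquiv.coe_toMonoidHom, MulAut.conj_apply]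
    rwa [show g⁻¹ * (g * x * g⁻¹) * g = x by group]
  · intro h
    exact ⟨_, h, by simp only [MulEquiv.coe_toMonoidHom, MulAut.conj_apply]; group⟩

theorem cmap_mono {g : G} {A B : Subgroup G} (h : A ≤ B) : cmap g A ≤ cmap g B := Subgroup.map_mono h

theorem cmap_cmap (g h : G) (A : Subgroup G) : cmap g (cmap h A) = cmap (g * h) A := by
  ext y; simp [mem_cmap, mul_assoc]

theorem cmap_one (A : Subgroup G) : cmap 1 A = A := by
  ext y; simp [mem_cmap]

theorem cmap_eq_of_mem [Finite G] {g : G} {A : Subgroup G}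
    (h : g ∈ Subgroup.normalizer (A : Set G)) : cmap g A = A := by
  ext y
  rw [mem_cmap]
  constructor
  · intro hy
    have := (Subgroup.mem_normalizer_iff.mp h _).mp hy
    rwa [show g * (g⁻¹ * y * g) * g⁻¹ = y by group] at this
  · intro hy
    refine (Subgroup.mem_normalizer_iff.mp h _).mpr ?_
    rwa [show g * (g⁻¹ * y * g) * g⁻¹ = y by group]

theorem mem_normalizer_of_cmap_le [Finite G] {g : G} {A : Subgroup G} (h : cmap g A ≤ A) :
    g ∈ Subgroup.normalizer (A : Set G) :=
  mem_normalizer_of_forall fun z hz => h ⟨z, hz, rfl⟩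

theorem card_cmap (g : G) (A : Subgroup G) : Nat.card (cmap g A) = Nat.card A :=
  Subgroup.card_map_of_injective (MulAut.conj g).injective

/-- A maximal subgroup which is not normal is self-normalising. -/
theorem coatom_normalizer {M : Subgroup G} (hM : IsCoatom M) (hn : ¬ M.Normal) :
    Subgroup.normalizer (M : Set G) = M := by
  rcases hM.le_iff.mp (Subgroup.le_normalizer (H := M)) with h | h
  · exact absurd (Subgroup.normalizer_eq_top_iff.mp h) hn
  · exact h

theorem isCoatom_cmap {M : Subgroup G} (hM : IsCoatom M) (g : G) : IsCoatom (cmap g M) := by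
  refine ⟨fun h => hM.1 ?_, fun K hK => ?_⟩
  · rw [← cmap_one M, ← inv_mul_cancel g, ← cmap_cmap, h, cmap,
      Subgroup.map_top_of_surjective _ (MulAut.conj g⁻¹).surjective]
  · have h1 : M < cmap g⁻¹ K := by
      have := Subgroup.map_lt_map_iff_of_injective (f := (MulAut.conj g⁻¹).toMonoidHom)
        (MulAut.conj g⁻¹).injective |>.mpr hK
      change cmap g⁻¹ (cmap g M) < cmap g⁻¹ K at this
      rwa [cmap_cmap, inv_mul_cancel, cmap_one] at this
    rw [← cmap_one K, ← mul_inv_cancel g, ← cmap_cmap, hM.2 _ h1, cmap,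
      Subgroup.map_top_of_surjective _ (MulAut.conj g).surjective]

/-- A normalised join of two subnormal subgroups is subnormal. -/
theorem isSubnormal_sup_of_le_normalizer [Finite G] {A B : Subgroup G} (hA : A.IsSubnormal)
    (hB : B.IsSubnormal) (hBA : B ≤ Subgroup.normalizer (A : Set G)) : (A ⊔ B).IsSubnormal := by
  suffices h : ∀ n, ∀ H : Subgroup G, Nat.card H = n → A ≤ H → B ≤ Subgroup.normalizer (H : Set G) →
      (H ⊔ B).IsSubnormal → (A ⊔ B).IsSubnormal by
    refine h _ ⊤ rfl le_top ?_ ?_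
    · rw [Subgroup.normalizer_eq_top]; exact le_top
    · rw [top_sup_eq]; exact Subgroup.IsSubnormal.top
  intro n
  induction n using Nat.strong_induction_on with
  | _ n ih => ?_
  intro H hn hAH hBH hsn
  rcases eq_or_ne A H with rfl | hne
  · exact hsn
  set L := H ⊔ B with hL
  have hA' : (A.subgroupOf H).IsSubnormal := hA.subgroupOf
  rcases hA'.lt_normal with htop | ⟨K, hKn, hAK, hKtop⟩
  · exact absurd (le_antisymm hAH (Subgroup.subgroupOf_eq_top.mp htop)) hne
  -- the normal closure of `A` in `H`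
  set K₀ := (Subgroup.normalClosure ((A.subgroupOf H : Subgroup H) : Set H)).map H.subtype with hK₀
  have hAK₀ : A ≤ K₀ := fun a ha =>
    ⟨⟨a, hAH ha⟩, Subgroup.le_normalClosure (Subgroup.mem_subgroupOf.mpr ha), rfl⟩
  have hK₀H : K₀ ≤ H := Subgroup.map_subtype_le _
  have hlt : Nat.card K₀ < n := by
    have h1 : Subgroup.normalClosure ((A.subgroupOf H : Subgroup H) : Set H) ≤ K :=
      Subgroup.normalClosure_le_normal hAK
    have h2 : Nat.card K₀ ≤ Nat.card K := by
      rw [hK₀, Subgroup.card_map_of_injective H.subtype_injective]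
      exact Subgroup.card_le_of_le h1
    have h3 : Nat.card K < Nat.card H := by
      by_contra hle
      exact hKtop.ne (Subgroup.eq_top_of_card_eq K (le_antisymm (Subgroup.card_le_card_group K) (not_lt.mp hle)))
    omega
  have hgen : ∀ h ∈ H, ∀ a ∈ A, h * a * h⁻¹ ∈ K₀ := fun h hh a ha =>
    ⟨_, Subgroup.normalClosure_normal.conj_mem ⟨a, hAH ha⟩
      (Subgroup.le_normalClosure (Subgroup.mem_subgroupOf.mpr ha)) ⟨h, hh⟩, rfl⟩
  -- `L` normalises `K₀`
  have hLK : ∀ g ∈ L, g ∈ Subgroup.normalizer (K₀ : Set G) := by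
    have hHn : H ≤ Subgroup.normalizer (K₀ : Set G) := by
      intro h hh
      refine mem_normalizer_of_forall ?_
      rintro _ ⟨k, hk, rfl⟩
      exact ⟨_, Subgroup.normalClosure_normal.conj_mem k hk ⟨h, hh⟩, rfl⟩
    have hBn : B ≤ Subgroup.normalizer (K₀ : Set G) := by
      intro b hb
      refine mem_normalizer_of_forall ?_
      rintro _ ⟨k, hk, rfl⟩
      induction hk using Subgroup.closure_induction with
      | mem y hy =>
        obtain ⟨a, ha, hay⟩ := Group.mem_conjugatesOfSet_iff.mp hy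
        obtain ⟨c, rfl⟩ := isConj_iff.mp hay
        simp only [Subgroup.coe_subtype, Subgroup.coe_mul, Subgroup.coe_inv]
        have := hgen (b * (c : G) * b⁻¹) ((Subgroup.mem_normalizer_iff.mp (hBH hb) _).mp c.2)
          (b * (a : G) * b⁻¹) ((Subgroup.mem_normalizer_iff.mp (hBA hb) _).mp (Subgroup.mem_subgroupOf.mp ha))
        rwa [show b * (c : G) * b⁻¹ * (b * (a : G) * b⁻¹) * (b * (c : G) * b⁻¹)⁻¹ =
          b * ((c : G) * (a : G) * (c : G)⁻¹) * b⁻¹ by group] at this
      | one => simp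
      | mul x y _ _ hx hy =>
        have := K₀.mul_mem hx hy
        simp only [Subgroup.coe_subtype, Subgroup.coe_mul] at this ⊢
        rwa [show b * (x : G) * b⁻¹ * (b * (y : G) * b⁻¹) = b * ((x : G) * y) * b⁻¹ by group] at this
      | inv x _ hx =>
        have := K₀.inv_mem hx
        simp only [Subgroup.coe_subtype, Subgroup.coe_inv] at this ⊢
        rwa [show (b * (x : G) * b⁻¹)⁻¹ = b * (x : G)⁻¹ * b⁻¹ by group] at this
    intro g hg
    exact (sup_le hHn hBn) hg
  have hKB : K₀ ⊔ B ≤ L := sup_le (hK₀H.trans le_sup_left) le_sup_right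
  refine ih _ hlt K₀ rfl hAK₀ (fun b hb => hLK b (Subgroup.mem_sup_right hb)) ?_
  refine Subgroup.IsSubnormal.trans hKB ?_ hsn
  have hBsn : (B.subgroupOf L).IsSubnormal := hB.subgroupOf
  haveI : (K₀.subgroupOf L).Normal := ⟨fun k hk g => by
    rw [Subgroup.mem_subgroupOf] at hk ⊢
    exact (Subgroup.mem_normalizer_iff.mp (hLK g g.2) _).mp hk⟩
  have h5 := (hBsn.map (QuotientGroup.mk'_surjective (K₀.subgroupOf L))).comap
    (QuotientGroup.mk' (K₀.subgroupOf L))
  rw [Subgroup.comap_map_eq, QuotientGroup.ker_mk', ← Subgroup.subgroupOf_sup le_sup_right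
    (hK₀H.trans le_sup_left), sup_comm] at h5
  exact h5

/-- A subnormal subgroup that is not normal has a different conjugate inside its normaliser. -/
theorem exists_conj_in_normalizer {A : Subgroup G} (hA : A.IsSubnormal) (hn : ¬ A.Normal) :
    ∃ x : G, x ∉ Subgroup.normalizer (A : Set G) ∧ cmap x A ≤ Subgroup.normalizer (A : Set G) := by
  suffices h : ∀ L : Subgroup G, L.IsSubnormal → A ≤ L → L ≤ Subgroup.normalizer (A : Set G) →
      ∃ x : G, x ∉ Subgroup.normalizer (A : Set G) ∧ cmap x A ≤ Subgroup.normalizer (A : Set G) from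
    h A hA le_rfl Subgroup.le_normalizer
  intro L hL
  induction hL with
  | top =>
    intro _ hN
    exact absurd (Subgroup.normalizer_eq_top_iff.mp (top_le_iff.mp hN)) hn
  | step L K hLK _ hLn ih =>
    intro hAL hLN
    by_cases hKN : K ≤ Subgroup.normalizer (A : Set G)
    · exact ih (hAL.trans hLK) hKN
    obtain ⟨x, hxK, hxN⟩ := SetLike.not_le_iff_exists.mp hKN
    refine ⟨x, hxN, ?_⟩
    rintro _ ⟨a, ha, rfl⟩
    exact hLN (hLn.conj_mem ⟨a, hLK (hAL ha)⟩ (Subgroup.mem_subgroupOf.mpr (hAL ha)) ⟨x, hxK⟩)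

/-- Wielandt's zipper lemma. -/
theorem zipper [Finite G] (A : Subgroup G)
    (h : ∀ H : Subgroup G, A ≤ H → H ≠ ⊤ → (A.subgroupOf H).IsSubnormal) :
    A.IsSubnormal ∨ ∃ M : Subgroup G, IsCoatom M ∧ A ≤ M ∧
      ∀ K : Subgroup G, IsCoatom K → A ≤ K → K = M := by
  induction hn : Nat.card G - Nat.card A using Nat.strong_induction_on generalizing A with
  | _ n ih => ?_
  by_cases hsn : A.IsSubnormal
  · exact Or.inl hsn
  right
  have hAn : ¬ A.Normal := fun hN => hsn hN.isSubnormal
  have hN : Subgroup.normalizer (A : Set G) ≠ ⊤ := fun hN => hAn (Subgroup.normalizer_eq_top_iff.mp hN)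
  obtain ⟨M, hM, hNM⟩ := (eq_top_or_exists_le_coatom _).resolve_left hN
  have hAM : A ≤ M := Subgroup.le_normalizer.trans hNM
  refine ⟨M, hM, hAM, fun K hK hAK => ?_⟩
  by_contra hKM
  have hnK : ¬ (A.subgroupOf K).Normal := by
    rw [Subgroup.normal_subgroupOf_iff_le_normalizer hAK]
    intro hle
    have := hle.trans hNM
    rcases hK.le_iff.mp this with h1 | h1
    · exact hM.1 h1
    · exact hKM h1.symm
  obtain ⟨x, hx, hxA⟩ := exists_conj_in_normalizer (h K hAK hK.1) hnK
  set B := A ⊔ cmap (x : G) A with hB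
  have hxAK : cmap (x : G) A ≤ K := by
    rintro _ ⟨a, ha, rfl⟩
    exact K.mul_mem (K.mul_mem x.2 (hAK ha)) (K.inv_mem x.2)
  have hxAN : cmap (x : G) A ≤ Subgroup.normalizer (A : Set G) := by
    rintro _ ⟨a, ha, rfl⟩
    have hmem : x * ⟨a, hAK ha⟩ * x⁻¹ ∈ Subgroup.normalizer ((A.subgroupOf K : Subgroup K) : Set K) :=
      hxA ⟨⟨a, hAK ha⟩, Subgroup.mem_subgroupOf.mpr ha, rfl⟩
    refine mem_normalizer_of_forall fun z hz => ?_
    exact Subgroup.mem_subgroupOf.mp ((Subgroup.mem_normalizer_iff.mp hmem ⟨z, hAK hz⟩).mp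
      (Subgroup.mem_subgroupOf.mpr hz))
  have hlt : A < B := by
    refine lt_of_le_of_ne le_sup_left fun heq => hx ?_
    refine mem_normalizer_of_forall fun z hz => ?_
    rw [Subgroup.mem_subgroupOf] at hz ⊢
    have : (x : G) * (z : G) * (x : G)⁻¹ ∈ B := Subgroup.mem_sup_right ⟨z, hz, rfl⟩
    rw [← heq] at this
    exact this
  have hBsub : ∀ H : Subgroup G, B ≤ H → H ≠ ⊤ → (B.subgroupOf H).IsSubnormal := by
    intro H hBH hH
    have hA1 := h H (le_sup_left.trans hBH) hH
    set H' := cmap (x : G)⁻¹ H with hH'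
    have hAH' : A ≤ H' := by
      intro a ha
      rw [hH', mem_cmap, inv_inv]
      exact (le_sup_right.trans hBH) ⟨a, ha, rfl⟩
    have hH'top : H' ≠ ⊤ := fun h1 => hH (by
      rw [← cmap_one H, ← mul_inv_cancel (x : G), ← cmap_cmap, ← hH', h1, cmap,
        Subgroup.map_top_of_surjective _ (MulAut.conj (x : G)).surjective])
    let φ : ↥H →* ↥H' :=
      { toFun := fun a => ⟨(x : G)⁻¹ * a * x, by
          rw [hH', mem_cmap, inv_inv,
            show (x : G) * ((x : G)⁻¹ * a * x) * (x : G)⁻¹ = (a : G) by group]; exact a.2⟩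
        map_one' := Subtype.ext (by simp)
        map_mul' := fun a b => Subtype.ext (by simp [mul_assoc]) }
    have hA2 : ((cmap (x : G) A).subgroupOf H).IsSubnormal := by
      have := (h H' hAH' hH'top).comap φ
      convert this using 1
      ext a
      rw [Subgroup.mem_subgroupOf, mem_cmap, Subgroup.mem_comap, Subgroup.mem_subgroupOf]
      rfl
    have hnorm : (cmap (x : G) A).subgroupOf H ≤
        Subgroup.normalizer ((A.subgroupOf H : Subgroup H) : Set H) := by
      intro a ha
      refine mem_normalizer_of_forall fun z hz => ?_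
      rw [Subgroup.mem_subgroupOf] at hz ha ⊢
      exact (Subgroup.mem_normalizer_iff.mp (hxAN ha) _).mp hz
    have := isSubnormal_sup_of_le_normalizer hA1 hA2 hnorm
    rwa [← Subgroup.subgroupOf_sup (le_sup_left.trans hBH) (le_sup_right.trans hBH)] at this
  have hcard : Nat.card A < Nat.card B := by
    by_contra hle
    exact hlt.ne (Subgroup.eq_of_le_of_card_ge hlt.le (not_lt.mp hle))
  have := Subgroup.card_le_card_group B
  rcases ih (Nat.card G - Nat.card B) (by omega) B hBsub rfl with hBsn | ⟨M', hM', hBM', huniq⟩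
  · refine hsn (Subgroup.IsSubnormal.step A B le_sup_left hBsn ?_)
    rw [Subgroup.normal_subgroupOf_iff_le_normalizer le_sup_left]
    exact sup_le Subgroup.le_normalizer hxAN
  · have e1 := huniq K hK (sup_le hAK hxAK)
    have e2 := huniq M hM (sup_le hAM (hxAN.trans hNM))
    exact hKM (e1.trans e2.symm)

end Cfsg.Agent.Lib.GS
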